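import Groth.Agent.Lib.Descend.Basic
import Groth.Agent.Lib.SchBasic.Basic
import Mathlib.AlgebraicGeometry.Morphisms.OpenImmersion

/-!
# Descent of universal injectivity, affineness and open immersions along limits
-/

universe u

set_option backward.isDefEq.respectTransparency false
set_option backward.defeqAttrib.useBackward true
set_option linter.style.haveILetI false

open CategoryTheory CategoryTheory.Limits AlgebraicGeometry Topology

namespace Groth.Agent.Descend

variable {I : Type u} [SmallCategory I] [IsCofiltered I] {S X : Scheme.{u}} {D : I ⥤ Scheme.{u}}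
  {t : D ⟶ (Functor.const I).obj S} {f : X ⟶ S} {c : Cone D} {q : c.pt ⟶ S}
  {P : Scheme.{u}} {p : P ⟶ X} {g : P ⟶ c.pt}
  [∀ i, IsAffineHom (t.app i)] [CompactSpace S] [QuasiSeparatedSpace S]

/-- Universal injectivity descends. -/
theorem exists_universallyInjective (hc : IsLimit c) [QuasiCompact f] [QuasiSeparated f]
    [LocallyOfFiniteType f] (hq : ∀ j, c.π.app j ≫ t.app j = q) (hP : IsPullback p g f q)
    [UniversallyInjective g] : ∃ j, UniversallyInjective (pullback.snd f (t.app j)) := by
  haveI : CompactSpace X := QuasiCompact.compactSpace_of_compactSpace f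
  haveI : QuasiSeparatedSpace X := quasiSeparatedSpace_of_quasiSeparated f
  haveI : CompactSpace ↥(pullback f f) :=
    QuasiCompact.compactSpace_of_compactSpace (pullback.fst f f)
  haveI : QuasiSeparatedSpace ↥(pullback f f) :=
    quasiSeparatedSpace_of_quasiSeparated (pullback.fst f f)
  let w : pullback f f ⟶ S := pullback.fst f f ≫ f
  let hW := IsPullback.of_hasPullback w q
  have hlim := pbIsLimit D t w c hq hW hc
  have hp : (p ≫ pullback.diagonal f) ≫ w = g ≫ q := by simp [w, hP.w]
  let g' : P ⟶ pullback w q := pullback.lift (p ≫ pullback.diagonal f) g hp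
  have hP' : IsPullback p g' (pullback.diagonal f) (pullback.fst w q) := by
    refine IsPullback.of_bot ?_ (pullback.lift_fst _ _ _).symm hW
    rw [pullback.lift_snd, show pullback.diagonal f ≫ w = f by simp [w]]
    exact hP
  haveI : Surjective g' := by
    have h1 : (pullback.fst w q ≫ pullback.fst f f) ≫ f = pullback.snd w q ≫ q := by
      rw [Category.assoc]; exact pullback.condition
    have h2 : (pullback.fst w q ≫ pullback.snd f f) ≫ f = pullback.snd w q ≫ q := by
      rw [Category.assoc, ← pullback.condition (f := f) (g := f)]; exact pullback.condition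
    let φ : pullback w q ⟶ pullback g g :=
      pullback.lift (hP.lift _ _ h1) (hP.lift _ _ h2) (by simp)
    let ψ : pullback g g ⟶ pullback w q :=
      pullback.lift (pullback.lift (pullback.fst g g ≫ p) (pullback.snd g g ≫ p)
        (by simp only [Category.assoc, hP.w, reassoc_of% (pullback.condition (f := g) (g := g))]))
        (pullback.fst g g ≫ g) (by simp [w, hP.w])
    have hφψ : φ ≫ ψ = 𝟙 _ := by
      apply pullback.hom_ext
      · apply pullback.hom_ext <;> simp [φ, ψ]
      · simp [φ, ψ]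
    have hψ : g' = pullback.diagonal g ≫ ψ := by
      apply pullback.hom_ext
      · apply pullback.hom_ext <;> simp [g', ψ]
      · simp [g', ψ]
    haveI : Surjective ψ := by
      haveI : Surjective (φ ≫ ψ) := by rw [hφψ]; infer_instance
      exact Surjective.of_comp φ ψ
    haveI : Surjective (pullback.diagonal g) := (UniversallyInjective.iff_diagonal g).1 inferInstance
    rw [hψ]; infer_instance
  haveI : LocallyOfFinitePresentation (pullback.diagonal f) := by
    haveI : LocallyOfFinitePresentation (pullback.diagonal f ≫ pullback.fst f f) := by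
      rw [pullback.diagonal_fst]; infer_instance
    exact SchBasic.locallyOfFinitePresentation_of_comp (pullback.diagonal f) (pullback.fst f f)
  obtain ⟨k, hk⟩ := exists_surjective (t := pbFst D t w) (f := pullback.diagonal f) hlim
    (fun j => pbCone_fst D t w c hq hW j) hP'
  refine ⟨k, (UniversallyInjective.iff_diagonal _).2 ?_⟩
  have h4 : (pullback.fst (pullback.diagonal f) (pullback.fst w (t.app k))) ≫ f =
      (pullback.snd (pullback.diagonal f) (pullback.fst w (t.app k)) ≫ pullback.snd w (t.app k)) ≫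
        t.app k := by
    rw [Category.assoc, ← pullback.condition, ← reassoc_of% pullback.condition]
    simp [w]
  let η : pullback (pullback.diagonal f) (pullback.fst w (t.app k)) ⟶ pullback f (t.app k) :=
    pullback.lift _ _ h4
  have h5 : (pullback.fst w (t.app k) ≫ pullback.fst f f) ≫ f = pullback.snd w (t.app k) ≫ t.app k := by
    rw [Category.assoc]; exact pullback.condition
  have h6 : (pullback.fst w (t.app k) ≫ pullback.snd f f) ≫ f = pullback.snd w (t.app k) ≫ t.app k := by
    rw [Category.assoc, ← pullback.condition (f := f) (g := f)]; exact pullback.condition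
  let ρ : pullback w (t.app k) ⟶ pullback (pullback.snd f (t.app k)) (pullback.snd f (t.app k)) :=
    pullback.lift (pullback.lift _ _ h5) (pullback.lift _ _ h6) (by simp)
  let ξ : pullback (pullback.snd f (t.app k)) (pullback.snd f (t.app k)) ⟶ pullback w (t.app k) :=
    pullback.lift (pullback.lift (pullback.fst _ _ ≫ pullback.fst f (t.app k))
      (pullback.snd _ _ ≫ pullback.fst f (t.app k))
      (by simp only [Category.assoc, pullback.condition]
          rw [reassoc_of% (pullback.condition (f := pullback.snd f (t.app k)) (g := pullback.snd f (t.app k)))]))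
      (pullback.fst _ _ ≫ pullback.snd f (t.app k)) (by simp [w, pullback.condition])
  have hξρ : ξ ≫ ρ = 𝟙 _ := by
    apply pullback.hom_ext
    · apply pullback.hom_ext <;> simp [ξ, ρ]
    · apply pullback.hom_ext <;> simp [ξ, ρ, pullback.condition]
  haveI : Surjective ρ := by
    haveI : Surjective (ξ ≫ ρ) := by rw [hξρ]; infer_instance
    exact Surjective.of_comp ξ ρ
  have hcomm : pullback.snd (pullback.diagonal f) (pullback.fst w (t.app k)) ≫ ρ =
      η ≫ pullback.diagonal _ := by
    apply pullback.hom_ext <;> apply pullback.hom_ext <;>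
      simp [ρ, η, ← reassoc_of% (pullback.condition (f := pullback.diagonal f)
        (g := pullback.fst w (t.app k)))]
  haveI : Surjective (pullback.snd (pullback.diagonal f) (pullback.fst w (t.app k))) := hk
  haveI : Surjective (η ≫ pullback.diagonal (pullback.snd f (t.app k))) := by
    rw [← hcomm]; infer_instance
  exact Surjective.of_comp η _

/-- Affineness descends. -/
theorem exists_isAffineHom (hc : IsLimit c) [QuasiCompact f] [QuasiSeparated f]
    (hq : ∀ j, c.π.app j ≫ t.app j = q) (hP : IsPullback p g f q)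
    [IsAffineHom g] : ∃ j, IsAffineHom (pullback.snd f (t.app j)) := by
  obtain ⟨i⟩ := IsCofiltered.nonempty (C := I)
  haveI : CompactSpace X := QuasiCompact.compactSpace_of_compactSpace f
  haveI : QuasiSeparatedSpace X := quasiSeparatedSpace_of_quasiSeparated f
  haveI : ∀ {i j : I} (a : i ⟶ j), IsAffineHom (D.map a) := fun a => isAffineHom_map D t a
  haveI : IsAffineHom q := by
    rw [← hq i]
    haveI := isAffineHom_π_app D c hc i
    infer_instance
  obtain ⟨s, hs⟩ := isCompact_univ.elim_finite_subcover (fun U : S.affineOpens => (U.1 : Set S))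
    (fun U => U.1.2) (by
      intro x _
      obtain ⟨_, ⟨U, hU, rfl⟩, hx, -⟩ :=
        S.isBasis_affineOpens.exists_subset_of_mem_open (Set.mem_univ x) isOpen_univ
      exact Set.mem_iUnion.2 ⟨⟨U, hU⟩, hx⟩)
  have hlim := pbIsLimit D t f c hq hP hc
  have key : ∀ U : s, ∃ (j : I) (a : j ⟶ i),
      IsAffineOpen (pullback.fst f (t.app j) ⁻¹ᵁ f ⁻¹ᵁ U.1.1) := by
    intro U
    have hU' : IsAffineOpen (p ⁻¹ᵁ f ⁻¹ᵁ U.1.1) := by
      rw [← Scheme.Hom.comp_preimage, hP.w, Scheme.Hom.comp_preimage]
      exact (U.1.2.preimage q).preimage g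
    obtain ⟨j, V, hV, hVe⟩ := exists_isAffineOpen_preimage_eq _ (pbCone D t f c hq hP) hlim _ hU'
    let k := IsCofiltered.min j i
    let ak : k ⟶ i := IsCofiltered.minToRight j i
    let ak' : k ⟶ j := IsCofiltered.minToLeft j i
    haveI : IsAffineHom ((pbFst D t f).app k) := inferInstance
    let Wk : ((pbDiagram D t f).obj k).Opens := (pbFst D t f).app k ⁻¹ᵁ f ⁻¹ᵁ U.1.1
    have hcpt : IsCompact (Wk : Set ((pbDiagram D t f).obj k)) :=
      QuasiCompact.isCompact_preimage (f := (pbFst D t f).app k) _ (f ⁻¹ᵁ U.1.1).2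
        (QuasiCompact.isCompact_preimage (f := f) _ U.1.1.2 U.1.2.isCompact)
    obtain ⟨l, b, hb⟩ := exists_map_preimage_eq_map_preimage (pbDiagram D t f) _ hlim
      (U := (pbDiagram D t f).map ak' ⁻¹ᵁ V) (V := Wk) (hV.preimage _).isCompact hcpt (by
        rw [← Scheme.Hom.comp_preimage, Cone.w, hVe]
        show _ = (pbCone D t f c hq hP).π.app k ⁻¹ᵁ pullback.fst f (t.app k) ⁻¹ᵁ f ⁻¹ᵁ U.1.1
        rw [← Scheme.Hom.comp_preimage _ (pullback.fst f (t.app k)), pbCone_fst])
    refine ⟨l, b ≫ ak, ?_⟩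
    rw [← pbMap_fst D t f b, Scheme.Hom.comp_preimage]
    show IsAffineOpen ((pbDiagram D t f).map b ⁻¹ᵁ Wk)
    rw [← hb]
    exact (hV.preimage _).preimage _
  choose j a hj using key
  obtain ⟨k, b, e, he⟩ := IsCofiltered.wideCospan a
  refine ⟨k, ?_⟩
  have hcov : ⨆ U : s, (t.app k) ⁻¹ᵁ U.1.1 = ⊤ := by
    rw [← Scheme.Hom.preimage_iSup, eq_top_iff]
    intro x _
    obtain ⟨U, hU, hx⟩ := Set.mem_iUnion₂.1 (hs (Set.mem_univ (t.app k x)))
    exact TopologicalSpace.Opens.mem_iSup.2 ⟨⟨U, hU⟩, hx⟩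
  rw [HasAffineProperty.iff_of_iSup_eq_top (P := @IsAffineHom)
    (fun U : s => (⟨t.app k ⁻¹ᵁ U.1.1, U.1.2.preimage _⟩ : (D.obj k).affineOpens)) hcov]
  intro U
  show IsAffine _
  have h1 : IsAffineOpen (pullback.fst f (t.app k) ⁻¹ᵁ f ⁻¹ᵁ U.1.1) := by
    rw [← pbMap_fst D t f (e U), Scheme.Hom.comp_preimage]
    exact (hj U).preimage _
  rw [← Scheme.Hom.comp_preimage, pullback.condition, Scheme.Hom.comp_preimage] at h1
  exact h1

/-- Being an open immersion descends. -/
theorem exists_isOpenImmersion (hc : IsLimit c) [QuasiCompact f] [QuasiSeparated f]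
    [LocallyOfFinitePresentation f] (hq : ∀ j, c.π.app j ≫ t.app j = q) (hP : IsPullback p g f q)
    [IsOpenImmersion g] : ∃ j, IsOpenImmersion (pullback.snd f (t.app j)) := by
  haveI : CompactSpace X := QuasiCompact.compactSpace_of_compactSpace f
  haveI : QuasiSeparatedSpace X := quasiSeparatedSpace_of_quasiSeparated f
  haveI := fun k => compactSpace_obj D t k
  haveI := fun k => quasiSeparatedSpace_obj D t k
  haveI : ∀ {i j : I} (a : i ⟶ j), IsAffineHom (D.map a) := fun a => isAffineHom_map D t a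
  have hlim := pbIsLimit D t f c hq hP hc
  haveI : CompactSpace P := Scheme.compactSpace_of_isLimit _ (pbCone D t f c hq hP) hlim
  obtain ⟨i, V, hVc, hV⟩ := exists_preimage_eq D c hc g.opensRange (by
    simpa using isCompact_range g.continuous)
  obtain ⟨j, a, hj⟩ := exists_map_eq_top _ (pbCone D t f c hq hP) hlim
    (pullback.snd f (t.app i) ⁻¹ᵁ V) (by
      rw [← Scheme.Hom.comp_preimage, pbCone_snd, Scheme.Hom.comp_preimage, hV]
      ext x; simp)
  rw [← Scheme.Hom.comp_preimage, pbMap_snd, Scheme.Hom.comp_preimage] at hj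
  let Vj := D.map a ⁻¹ᵁ V
  have hVj : IsCompact (Vj : Set (D.obj j)) := QuasiCompact.isCompact_preimage (f := D.map a) _ V.2 hVc
  have hVje : c.π.app j ⁻¹ᵁ Vj = g.opensRange := by
    rw [← Scheme.Hom.comp_preimage, c.w, hV]
  haveI (k : Over j) : CompactSpace ↥((opensDiagram D j Vj).obj k) :=
    isCompact_iff_compactSpace.mp (QuasiCompact.isCompact_preimage (f := D.map k.hom) _ Vj.2 hVj)
  haveI (k : Over j) : QuasiSeparatedSpace ↥((opensDiagram D j Vj).obj k) :=
    (isQuasiSeparated_iff_quasiSeparatedSpace _ (D.map _ ⁻¹ᵁ _).2).mp (.of_quasiSeparatedSpace _)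
  have hr : Set.range (c.π.app j ⁻¹ᵁ Vj).ι ⊆ Set.range g := by
    rw [Scheme.Opens.range_ι, hVje]; simp
  obtain ⟨k, s, hs, hsf⟩ := Scheme.exists_π_app_comp_eq_of_locallyOfFinitePresentation
    (opensDiagram D j Vj) (opensDiagramι D j Vj ≫ (Over.forget j).whiskerLeft t) f
    _ (isLimitOpensCone D c hc j Vj) (IsOpenImmersion.lift g _ hr ≫ p) (by
      ext k
      simp [hq, hP.w])
  have hrk : Set.range (pullback.snd f (t.app k.left)) ⊆ Set.range (D.map k.hom ⁻¹ᵁ Vj).ι := by
    rintro _ ⟨x, rfl⟩
    rw [Scheme.Opens.range_ι]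
    show D.map k.hom (pullback.snd f (t.app k.left) x) ∈ Vj
    rw [← Scheme.Hom.comp_apply, ← pbMap_snd, Scheme.Hom.comp_apply]
    exact hj.ge (Set.mem_univ _)
  let σ := IsOpenImmersion.lift _ _ hrk
  have hgr : Set.range g ⊆ Set.range (c.π.app j ⁻¹ᵁ Vj).ι := by
    rw [Scheme.Opens.range_ι, hVje]; simp
  let g' : P ⟶ (c.π.app j ⁻¹ᵁ Vj) := IsOpenImmersion.lift _ _ hgr
  have hσ : (pbCone D t f c hq hP).π.app k.left ≫ σ = g' ≫ (opensCone D c j Vj).π.app k := by
    rw [← cancel_mono (D.map k.hom ⁻¹ᵁ Vj).ι]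
    simp [σ, g']
  have hg' : g' ≫ IsOpenImmersion.lift g _ hr = 𝟙 P := by
    rw [← cancel_mono g]; simp [g']
  obtain ⟨l, b, hb⟩ := Scheme.exists_hom_comp_eq_comp_of_locallyOfFiniteType (pbDiagram D t f)
    (pbFst D t f ≫ (Functor.const I).map f) f _ hlim (i := k.left)
    (pullback.fst f (t.app k.left)) (σ ≫ s) (by simp [pbFst]) (by
      simp only [Category.assoc, hsf]
      simp [pbFst, σ, pullback.condition])
    (by
      rw [pbCone_fst, reassoc_of% hσ, hs, reassoc_of% hg'])
  refine ⟨l, ?_⟩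
  let Vl := D.map b ⁻¹ᵁ D.map k.hom ⁻¹ᵁ Vj
  have hrl : Set.range (pullback.snd f (t.app l)) ⊆ Set.range Vl.ι := by
    rintro _ ⟨x, rfl⟩
    rw [Scheme.Opens.range_ι]
    show D.map b (pullback.snd f (t.app l) x) ∈ (D.map k.hom ⁻¹ᵁ Vj : Set _)
    rw [← Scheme.Hom.comp_apply, ← pbMap_snd, Scheme.Hom.comp_apply, ← Scheme.Opens.range_ι]
    exact hrk ⟨_, rfl⟩
  let σl := IsOpenImmersion.lift _ _ hrl
  have hτ : (D.map b ∣_ (D.map k.hom ⁻¹ᵁ Vj) ≫ s) ≫ f = Vl.ι ≫ t.app l := by
    rw [Category.assoc, hsf]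
    simp [t_nat, Vl]
  let τ : Vl.toScheme ⟶ pullback f (t.app l) := pullback.lift _ _ hτ
  have hσl : σl ≫ D.map b ∣_ (D.map k.hom ⁻¹ᵁ Vj) = (pbDiagram D t f).map b ≫ σ := by
    rw [← cancel_mono (D.map k.hom ⁻¹ᵁ Vj).ι]
    simp only [σ, σl, Category.assoc, morphismRestrict_ι, IsOpenImmersion.lift_fac, pbMap_snd]
    erw [IsOpenImmersion.lift_fac_assoc]
  haveI : IsIso σl := ⟨τ, by
    apply pullback.hom_ext
    · simp only [τ, Category.assoc, pullback.lift_fst, Category.id_comp]
      rw [reassoc_of% hσl, ← hb, pbMap_fst]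
    · simp [τ, σl], by
    rw [← cancel_mono Vl.ι]; simp [τ, σl]⟩
  rw [← IsOpenImmersion.lift_fac Vl.ι _ hrl]
  infer_instance

end Groth.Agent.Descend
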