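import Groth.Agent.Lib.Descend.Basic
import Groth.Agent.Lib.SchBasic.Basic

/-!
# The system attached to a morphism over one stage of a limit
-/

universe u

set_option backward.isDefEq.respectTransparency false
set_option backward.defeqAttrib.useBackward true
set_option linter.style.haveILetI false

open CategoryTheory CategoryTheory.Limits AlgebraicGeometry

namespace Groth.Agent.Descend

variable {I : Type u} [SmallCategory I] (D : I ⥤ Scheme.{u}) (i₀ : I)

/-- The system over one of its members. -/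
def overT : Over.forget i₀ ⋙ D ⟶ (Functor.const (Over i₀)).obj (D.obj i₀) where
  app k := D.map k.hom
  naturality k l a := by simp [← D.map_comp]

instance overT_isAffineHom [∀ (i j : I) (f : i ⟶ j), IsAffineHom (D.map f)] (k : Over i₀) :
    IsAffineHom ((overT D i₀).app k) := ‹∀ (i j : I) (f : i ⟶ j), IsAffineHom (D.map f)› _ _ k.hom

variable {D i₀} [IsCofiltered I] {c : Cone D}

/-- To descend a property of a morphism of finite presentation schemes over one stage, it is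
enough to descend it for morphisms to the base of a system affine over it. -/
theorem exists_stage (Q Pr : MorphismProperty Scheme.{u}) (hc : IsLimit c)
    [∀ (i j : I) (f : i ⟶ j), IsAffineHom (D.map f)]
    {X₀ Y₀ : Scheme.{u}} (f₀ : X₀ ⟶ Y₀) (g₀ : Y₀ ⟶ D.obj i₀)
    {X Y : Scheme.{u}} (f : X ⟶ Y) (g : Y ⟶ c.pt) (qY : Y ⟶ Y₀) (qX : X ⟶ X₀)
    (hY : IsPullback qY g g₀ (c.π.app i₀)) (hX : IsPullback qX f f₀ qY) (hf : Q f)
    (H : ∀ (E : Over i₀ ⥤ Scheme.{u}) (t : E ⟶ (Functor.const (Over i₀)).obj Y₀) (e : Cone E)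
      [∀ k, IsAffineHom (t.app k)] (q : e.pt ⟶ Y₀) (P : Scheme.{u}) (p : P ⟶ X₀) (r : P ⟶ e.pt),
      IsLimit e → (∀ k, e.π.app k ≫ t.app k = q) → IsPullback p r f₀ q → Q r →
      ∃ k, Pr (pullback.snd f₀ (t.app k))) :
    ∃ (i : I) (φ : i ⟶ i₀) (Xi Yi : Scheme.{u}) (fi : Xi ⟶ Yi) (gi : Yi ⟶ D.obj i) (pY : Yi ⟶ Y₀)
      (pX : Xi ⟶ X₀), IsPullback pY gi g₀ (D.map φ) ∧ IsPullback pX fi f₀ pY ∧ Pr fi := by
  let c' : Cone (Over.forget i₀ ⋙ D) := c.whisker (Over.forget i₀)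
  have hc' : IsLimit c' := (Functor.Initial.isLimitWhiskerEquiv (Over.forget i₀) c).symm hc
  have hq : ∀ k, c'.π.app k ≫ (overT D i₀).app k = c.π.app i₀ := fun k => c.w k.hom
  obtain ⟨k, hk⟩ := H _ (pbFst (Over.forget i₀ ⋙ D) (overT D i₀) g₀)
    (pbCone _ (overT D i₀) g₀ c' hq hY) qY X qX f (pbIsLimit _ (overT D i₀) g₀ c' hq hY hc')
    (fun k => pbCone_fst _ (overT D i₀) g₀ c' hq hY k) hX hf
  exact ⟨k.left, k.hom, _, _, pullback.snd f₀ _, pullback.snd g₀ (D.map k.hom),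
    pullback.fst g₀ (D.map k.hom), pullback.fst f₀ _, IsPullback.of_hasPullback _ _,
    IsPullback.of_hasPullback _ _, hk⟩

theorem compactSpace_stage {Y₀ : Scheme.{u}} (g₀ : Y₀ ⟶ D.obj i₀) [CompactSpace (D.obj i₀)]
    [QuasiCompact g₀] : CompactSpace Y₀ :=
  QuasiCompact.compactSpace_of_compactSpace g₀

theorem quasiSeparatedSpace_stage {Y₀ : Scheme.{u}} (g₀ : Y₀ ⟶ D.obj i₀)
    [QuasiSeparatedSpace (D.obj i₀)] [QuasiSeparated g₀] : QuasiSeparatedSpace Y₀ :=
  quasiSeparatedSpace_of_quasiSeparated g₀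

end Groth.Agent.Descend
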