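import Groth.Agent.Lib.Descend.BaseChange
import Groth.Agent.Lib.Descend.Props
import Groth.Agent.Lib.Descend.Stage
import Mathlib.AlgebraicGeometry.Morphisms.ClosedImmersion
import Mathlib.AlgebraicGeometry.Morphisms.Immersion
import Mathlib.RingTheory.Adjoin.FG

/-!
# Descent of closed immersions and immersions along limits
-/

universe u

set_option backward.isDefEq.respectTransparency false
set_option backward.defeqAttrib.useBackward true
set_option linter.style.haveILetI false

open CategoryTheory CategoryTheory.Limits AlgebraicGeometry Topology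

namespace Groth.Agent.Descend

variable {I : Type u} [SmallCategory I] [IsCofiltered I] {S X : Scheme.{u}} {D : I ⥤ Scheme.{u}}
  {t : D ⟶ (Functor.const I).obj S} {f : X ⟶ S} {c : Cone D} {q : c.pt ⟶ S}
  {P : Scheme.{u}} {p : P ⟶ X} {g : P ⟶ c.pt}
  [∀ i, IsAffineHom (t.app i)] [CompactSpace S] [QuasiSeparatedSpace S]

/-- In a pushout square of commutative rings, the map from the second summand is surjective as
soon as generators of the first summand land in its image. -/
theorem surjective_of_isPushout {A B C E : CommRingCat.{u}} {a : A ⟶ B} {b : A ⟶ C} {u : B ⟶ E}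
    {v : C ⟶ E} (h : IsPushout a b u v) (s : Set B)
    (hs : Subring.closure (Set.range a ∪ s) = ⊤) (hv : ∀ x ∈ s, u x ∈ v.hom.range) :
    Function.Surjective v := by
  have hu : ∀ x, u x ∈ v.hom.range := by
    intro x
    have hx : x ∈ Subring.closure (Set.range a ∪ s) := by rw [hs]; trivial
    refine (Subring.closure_le (t := v.hom.range.comap u.hom)).2 ?_ hx
    rintro _ (⟨y, rfl⟩ | hy)
    · exact ⟨b y, congrArg (fun m : A ⟶ E => m y) h.w.symm⟩
    · exact hv _ hy
  let u' : B ⟶ CommRingCat.of v.hom.range := CommRingCat.ofHom (u.hom.codRestrict _ hu)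
  let v' : C ⟶ CommRingCat.of v.hom.range := CommRingCat.ofHom v.hom.rangeRestrict
  let j : CommRingCat.of v.hom.range ⟶ E := CommRingCat.ofHom v.hom.range.subtype
  have hw : a ≫ u' = b ≫ v' := by
    ext y
    exact congrArg (fun m : A ⟶ E => m y) h.w
  have hd : h.desc u' v' hw ≫ j = 𝟙 E := by
    apply h.hom_ext
    · rw [h.inl_desc_assoc, Category.comp_id]; rfl
    · rw [h.inr_desc_assoc, Category.comp_id]; rfl
  intro e
  have : j (h.desc u' v' hw e) = e := congrArg (fun m : E ⟶ E => m e) hd
  rw [← this]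
  exact (h.desc u' v' hw e).2

/-- Being a closed immersion descends, affine base. -/
theorem exists_isClosedImmersion_of_isAffine [IsAffine S] (hc : IsLimit c) [QuasiCompact f]
    [QuasiSeparated f] [LocallyOfFiniteType f] (hq : ∀ j, c.π.app j ≫ t.app j = q)
    (hP : IsPullback p g f q) [IsClosedImmersion g] :
    ∃ j, IsClosedImmersion (pullback.snd f (t.app j)) := by
  obtain ⟨i, hi⟩ := exists_isAffineHom hc hq hP
  haveI : CompactSpace X := QuasiCompact.compactSpace_of_compactSpace f
  haveI : QuasiSeparatedSpace X := quasiSeparatedSpace_of_quasiSeparated f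
  haveI := fun k => compactSpace_obj D t k
  haveI := fun k => quasiSeparatedSpace_obj D t k
  haveI hD : ∀ k, IsAffine (D.obj k) := fun k => by
    haveI : IsAffine (((Functor.const I).obj S).obj k) := ‹IsAffine S›
    exact isAffine_of_isAffineHom (t.app k)
  haveI : ∀ {i j : I} (a : i ⟶ j), IsAffineHom (D.map a) := fun a => isAffineHom_map D t a
  haveI : IsAffine c.pt := Scheme.isAffine_of_isLimit _ hc
  haveI : IsAffine ((pbDiagram D t f).obj i) := isAffine_of_isAffineHom (pullback.snd f (t.app i))
  haveI : IsAffine (pullback f (t.app i)) := ‹IsAffine ((pbDiagram D t f).obj i)›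
  have hlim := pbIsLimit D t f c hq hP hc
  have hft : (pullback.snd f (t.app i)).appTop.hom.FiniteType :=
    (HasRingHomProperty.iff_of_isAffine (P := @LocallyOfFiniteType)).1 inferInstance
  algebraize [(pullback.snd f (t.app i)).appTop.hom]
  obtain ⟨s, hs⟩ := hft.out
  have hsurj : Function.Surjective g.appTop :=
    (IsClosedImmersion.isAffine_surjective_of_isAffine (f := g)).2
  have key : ∀ x : s, ∃ (j : I) (a : j ⟶ i),
      ((pbDiagram D t f).map a).appTop x.1 ∈ (pullback.snd f (t.app j)).appTop.hom.range := by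
    intro x
    obtain ⟨r₀, hr₀⟩ := hsurj (((pbCone D t f c hq hP).π.app i).appTop x.1)
    obtain ⟨i', r, rfl⟩ := exists_appTop_π_eq_of_isLimit D c hc r₀
    let k := IsCofiltered.min i i'
    let ai : k ⟶ i := IsCofiltered.minToLeft i i'
    let ai' : k ⟶ i' := IsCofiltered.minToRight i i'
    obtain ⟨j, b, hb⟩ := exists_appTop_map_eq_zero_of_isLimit (pbDiagram D t f)
      (pbCone D t f c hq hP) hlim (i := k)
      (((pbDiagram D t f).map ai).appTop x.1 -
        ((pbSnd D t f).app k).appTop ((D.map ai').appTop r)) (by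
        rw [map_sub, sub_eq_zero, ← CommRingCat.comp_apply, ← CommRingCat.comp_apply,
          ← CommRingCat.comp_apply, ← Scheme.Hom.comp_appTop, ← Scheme.Hom.comp_appTop,
          ← Scheme.Hom.comp_appTop, Cone.w]
        refine hr₀.symm.trans ?_
        have hm : (g ≫ c.π.app i').appTop =
            (((pbCone D t f c hq hP).π.app k ≫ (pbSnd D t f).app k) ≫ D.map ai').appTop := by
          congr 1
          dsimp only [pbSnd]
          erw [pbCone_snd]
          rw [Category.assoc, c.w]
        rw [Scheme.Hom.comp_appTop] at hm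
        exact congrArg (fun m => m r) hm)
    refine ⟨j, b ≫ ai, (D.map (b ≫ ai')).appTop r, ?_⟩
    rw [map_sub, sub_eq_zero, ← CommRingCat.comp_apply, ← CommRingCat.comp_apply,
      ← Scheme.Hom.comp_appTop, ← Scheme.Hom.comp_appTop, ← Functor.map_comp] at hb
    rw [hb]
    have hm : (D.map (b ≫ ai')).appTop ≫ (pullback.snd f (t.app j)).appTop =
        ((pbDiagram D t f).map b ≫ (pbSnd D t f).app k ≫ D.map ai').appTop := by
      rw [← Scheme.Hom.comp_appTop]
      dsimp only [pbSnd]
      erw [pbMap_snd_assoc]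
      rw [D.map_comp]
    exact congrArg (fun m => m r) hm
  have hcl : Subring.closure (Set.range (pullback.snd f (t.app i)).appTop ∪
      (SetLike.coe s : Set Γ(pullback f (t.app i), ⊤))) = ⊤ := by
    rw [← top_le_iff]
    intro x _
    have hx : x ∈ Algebra.adjoin Γ(D.obj i, ⊤) (s : Set Γ(pullback f (t.app i), ⊤)) := by
      rw [hs]; trivial
    rw [← Subalgebra.mem_toSubring, Algebra.adjoin_eq_ring_closure] at hx
    exact hx
  choose j a hj using key
  obtain ⟨k, b, e, he⟩ := IsCofiltered.wideCospan a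
  refine ⟨k, ?_⟩
  haveI : IsAffineHom (pullback.snd f (t.app k)) :=
    MorphismProperty.of_isPullback (pbMap_isPullback D t f b) hi
  haveI : IsAffine (pullback f (t.app k)) := isAffine_of_isAffineHom (pullback.snd f (t.app k))
  refine IsClosedImmersion.of_surjective_of_isAffine _ ?_
  refine surjective_of_isPushout (isPushout_appTop_of_isPullback (pbMap_isPullback D t f b))
    (SetLike.coe s : Set Γ(pullback f (t.app i), ⊤)) ?_ ?_
  · exact hcl
  · intro x hx
    obtain ⟨r, hr⟩ := hj ⟨x, hx⟩
    refine ⟨(D.map (e ⟨x, hx⟩)).appTop r, ?_⟩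
    rw [← he ⟨x, hx⟩, (pbDiagram D t f).map_comp, Scheme.Hom.comp_appTop, CommRingCat.comp_apply,
      ← hr]
    have hm : (D.map (e ⟨x, hx⟩)).appTop ≫ (pullback.snd f (t.app k)).appTop =
        (pullback.snd f (t.app (j ⟨x, hx⟩))).appTop ≫ ((pbDiagram D t f).map (e ⟨x, hx⟩)).appTop := by
      rw [← Scheme.Hom.comp_appTop, ← Scheme.Hom.comp_appTop, pbMap_snd]
    exact congrArg (fun m => m r) hm

omit [QuasiSeparatedSpace S] in
/-- Being a closed immersion descends. -/
theorem exists_isClosedImmersion (hc : IsLimit c) [QuasiCompact f]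
    [QuasiSeparated f] [LocallyOfFiniteType f] (hq : ∀ j, c.π.app j ≫ t.app j = q)
    (hP : IsPullback p g f q) [IsClosedImmersion g] :
    ∃ j, IsClosedImmersion (pullback.snd f (t.app j)) := by
  refine exists_of_affine_base @IsClosedImmersion
    (@QuasiCompact ⊓ @QuasiSeparated ⊓ @LocallyOfFiniteType) @IsClosedImmersion hc hq hP
    inferInstance ⟨⟨inferInstance, inferInstance⟩, inferInstance⟩ ?_
  intro S' X' _ D' t' _ f' c' q' P' p' g' hf' hc' hq' hP' hg'
  have := hf'.1.1
  have := hf'.1.2
  have := hf'.2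
  have : IsClosedImmersion g' := hg'
  exact exists_isClosedImmersion_of_isAffine hc' hq' hP'

omit [IsCofiltered I] [∀ i, IsAffineHom (t.app i)] [CompactSpace S] [QuasiSeparatedSpace S] in
/-- Cancelling a monomorphism at the corner of a pullback square. -/
theorem isPullback_of_comp_mono {A B C E F : Scheme.{u}} {a : A ⟶ B} {r : A ⟶ C} {u : B ⟶ E}
    {v : C ⟶ E} (ι : E ⟶ F) [Mono ι] (h : IsPullback a r (u ≫ ι) (v ≫ ι)) :
    IsPullback a r u v := by
  refine IsPullback.of_isLimit' ⟨by rw [← cancel_mono ι]; simpa using h.w⟩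
    (PullbackCone.IsLimit.mk _ (fun s => h.lift s.fst s.snd (by
      rw [← Category.assoc, s.condition, Category.assoc]))
      (fun s => by simp) (fun s => by simp) (fun s m h1 h2 => ?_))
  apply h.hom_ext <;> simp [h1, h2]

/-- Being an immersion descends. -/
theorem exists_isImmersion (hc : IsLimit c) [QuasiCompact f] [QuasiSeparated f]
    [LocallyOfFiniteType f] (hq : ∀ j, c.π.app j ≫ t.app j = q) (hP : IsPullback p g f q)
    [IsImmersion g] : ∃ j, IsImmersion (pullback.snd f (t.app j)) := by
  haveI : CompactSpace X := QuasiCompact.compactSpace_of_compactSpace f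
  haveI : QuasiSeparatedSpace X := quasiSeparatedSpace_of_quasiSeparated f
  haveI := fun k => compactSpace_obj D t k
  haveI := fun k => quasiSeparatedSpace_obj D t k
  haveI : ∀ {i j : I} (a : i ⟶ j), IsAffineHom (D.map a) := fun a => isAffineHom_map D t a
  have hlim := pbIsLimit D t f c hq hP hc
  haveI : CompactSpace P := Scheme.compactSpace_of_isLimit _ (pbCone D t f c hq hP) hlim
  obtain ⟨W, hWc, hgW, hWcob⟩ : ∃ W : c.pt.Opens, IsCompact (W : Set c.pt) ∧
      Set.range g ⊆ W ∧ W ≤ g.coborderRange := by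
    obtain ⟨s, hs⟩ := (isCompact_range g.continuous).elim_finite_subcover
      (fun W : {W : c.pt.affineOpens // W.1 ≤ g.coborderRange} => (W.1.1 : Set c.pt))
      (fun W => W.1.1.2) (by
        intro x hx
        obtain ⟨_, ⟨W, hW, rfl⟩, hxW, hWc⟩ := c.pt.isBasis_affineOpens.exists_subset_of_mem_open
          (show x ∈ (g.coborderRange : Set c.pt) from subset_coborder hx) g.coborderRange.2
        exact Set.mem_iUnion.2 ⟨⟨⟨W, hW⟩, hWc⟩, hxW⟩)
    refine ⟨⨆ W ∈ s, W.1.1, ?_, ?_, iSup₂_le fun W _ => W.2⟩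
    · simp only [TopologicalSpace.Opens.coe_iSup]
      exact s.finite_toSet.isCompact_biUnion fun W _ => W.1.2.isCompact
    · simpa only [TopologicalSpace.Opens.coe_iSup] using hs
  obtain ⟨i, V, hVc, hV⟩ := exists_preimage_eq D c hc W hWc
  obtain ⟨i₁, a, ha⟩ := exists_map_eq_top _ (pbCone D t f c hq hP) hlim
    (pullback.snd f (t.app i) ⁻¹ᵁ V) (by
      rw [← Scheme.Hom.comp_preimage, pbCone_snd, Scheme.Hom.comp_preimage, hV, eq_top_iff]
      intro x _
      exact hgW ⟨x, rfl⟩)
  rw [← Scheme.Hom.comp_preimage, pbMap_snd, Scheme.Hom.comp_preimage] at ha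
  let V₁ := D.map a ⁻¹ᵁ V
  have hV₁ : IsCompact (V₁ : Set (D.obj i₁)) :=
    QuasiCompact.isCompact_preimage (f := D.map a) _ V.2 hVc
  haveI : CompactSpace V₁ := isCompact_iff_compactSpace.mp hV₁
  haveI : QuasiSeparatedSpace V₁.toScheme :=
    (isQuasiSeparated_iff_quasiSeparatedSpace _ V₁.2).mp (.of_quasiSeparatedSpace _)
  -- the system over `V₁`
  let E := pbDiagram (Over.forget i₁ ⋙ D) (overT D i₁) V₁.ι
  let tE := pbFst (Over.forget i₁ ⋙ D) (overT D i₁) V₁.ι
  let c₁ : Cone (Over.forget i₁ ⋙ D) := c.whisker (Over.forget i₁)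
  have hc₁ : IsLimit c₁ := (Functor.Initial.isLimitWhiskerEquiv (Over.forget i₁) c).symm hc
  have hq₁ : ∀ k, c₁.π.app k ≫ (overT D i₁).app k = c.π.app i₁ := fun k => c.w k.hom
  let hQ := IsPullback.of_hasPullback V₁.ι (c.π.app i₁)
  obtain ⟨γ, hγ⟩ := bc_isPullback_limit (f := pullback.snd f (t.app i₁)) V₁.ι
    (pbCone_isPullback D t f c hq hP i₁)
  haveI : IsClosedImmersion (pullback.snd (pullback.snd (pullback.snd f (t.app i₁)) V₁.ι)
      (pullback.fst V₁.ι (c.π.app i₁))) := by
    let h := pullback.snd V₁.ι (c.π.app i₁)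
    have hr : Set.range h ⊆ Set.range (g.coborderRange).ι := by
      rw [Scheme.Opens.range_ι, Scheme.Pullback.range_snd, Scheme.Opens.range_ι]
      intro x (hx : D.map a (c.π.app i₁ x) ∈ V)
      apply hWcob
      rw [← hV]
      show c.π.app i x ∈ V
      rwa [← c.w a]
    let h' := IsOpenImmersion.lift g.coborderRange.ι h hr
    have hsq : IsPullback γ (pullback.snd (pullback.snd (pullback.snd f (t.app i₁)) V₁.ι)
        (pullback.fst V₁.ι (c.π.app i₁))) g.liftCoborder h' :=
      isPullback_of_comp_mono g.coborderRange.ι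
        (by rw [Scheme.Hom.liftCoborder_ι, IsOpenImmersion.lift_fac]; exact hγ)
    exact MorphismProperty.of_isPullback hsq inferInstance
  obtain ⟨k, hk⟩ := exists_isClosedImmersion (pbIsLimit _ (overT D i₁) V₁.ι c₁ hq₁ hQ hc₁)
    (t := tE) (fun j => pbCone_fst _ (overT D i₁) V₁.ι c₁ hq₁ hQ j)
    (IsPullback.of_hasPullback (pullback.snd (pullback.snd f (t.app i₁)) V₁.ι)
      (pullback.fst V₁.ι (c.π.app i₁)))
  refine ⟨k.left, ?_⟩
  have h1 := bcMap_isPullback (f := pullback.snd f (t.app i₁)) (t := overT D i₁) V₁.ι k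
  haveI : IsIso (bcMap (f := pullback.snd f (t.app i₁)) (t := overT D i₁) V₁.ι k) := by
    haveI : IsOpenImmersion (bcMap (f := pullback.snd f (t.app i₁)) (t := overT D i₁) V₁.ι k) :=
      MorphismProperty.of_isPullback h1.flip inferInstance
    haveI : Surjective (bcMap (f := pullback.snd f (t.app i₁)) (t := overT D i₁) V₁.ι k) := by
      refine ⟨fun x => ?_⟩
      have hx : pullback.snd (pullback.snd f (t.app i₁)) (D.map k.hom) x ∈
          Set.range (pullback.snd V₁.ι (D.map k.hom)) := by
        rw [Scheme.Pullback.range_snd, Scheme.Opens.range_ι]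
        show D.map k.hom (pullback.snd (pullback.snd f (t.app i₁)) (D.map k.hom) x) ∈ V₁
        rw [← Scheme.Hom.comp_apply, ← pullback.condition, Scheme.Hom.comp_apply]
        exact ha.ge (Set.mem_univ _)
      obtain ⟨y, hy⟩ := hx
      obtain ⟨z, hz, -⟩ := Scheme.exists_preimage_of_isPullback h1 x y hy.symm
      exact ⟨z, hz⟩
    exact isIso_of_isOpenImmersion_of_opensRange_eq_top _ (TopologicalSpace.Opens.ext (Set.range_eq_univ.2 (bcMap (f := pullback.snd f (t.app i₁)) (t := overT D i₁) V₁.ι k).surjective))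
  have h2 : IsImmersion (pullback.snd (pullback.snd f (t.app i₁)) (D.map k.hom)) := by
    have h3 : IsImmersion (bcMap (f := pullback.snd f (t.app i₁)) (t := overT D i₁) V₁.ι k ≫
        pullback.snd (pullback.snd f (t.app i₁)) ((overT D i₁).app k)) := by
      rw [h1.w]
      haveI := hk
      infer_instance
    rwa [MorphismProperty.cancel_left_of_respectsIso @IsImmersion] at h3
  rw [← (pbMap_isPullback D t f k.hom).isoPullback_hom_snd]
  haveI := h2
  infer_instance

end Groth.Agent.Descend
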