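import Mathlib.RingTheory.Smooth.Locus
import Mathlib.RingTheory.Extension.Cotangent.BaseChange
import Mathlib.RingTheory.Flat.FaithfullyFlat.Algebra
import Mathlib.RingTheory.Kaehler.TensorProduct
import Mathlib.RingTheory.Flat.Localization

/-!
# Smoothness at a prime descends along flat base change
-/

universe u

set_option linter.style.haveILetI false

open TensorProduct

namespace Groth.Agent.Descend

theorem free_localized_of_baseChange {B B' M : Type u} [CommRing B] [CommRing B'] [Algebra B B']
    [Module.Flat B B'] [AddCommGroup M] [Module B M] [Module.FinitePresentation B M]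
    (q' : PrimeSpectrum B') (h : q' ∈ Module.freeLocus B' (B' ⊗[B] M)) :
    PrimeSpectrum.comap (algebraMap B B') q' ∈ Module.freeLocus B M := by
  let q := q'.asIdeal.comap (algebraMap B B')
  let Bq := Localization.AtPrime q
  let Cq := Localization.AtPrime q'.asIdeal
  letI : Algebra Bq Cq := (Localization.localRingHom q q'.asIdeal (algebraMap B B') rfl).toAlgebra
  haveI : IsScalarTower B Bq Cq := IsScalarTower.of_algebraMap_eq fun x => by
    simp [Bq, Cq, RingHom.algebraMap_toAlgebra, Localization.localRingHom_to_map,
      IsScalarTower.algebraMap_apply B B' (Localization.AtPrime q'.asIdeal)]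
  haveI : Module.Flat B Cq := Module.Flat.trans B B' Cq
  haveI : Module.Flat Bq Cq := (Module.flat_iff_of_isLocalization Bq q.primeCompl Cq).2 inferInstance
  haveI : IsLocalHom (algebraMap Bq Cq) := by
    rw [RingHom.algebraMap_toAlgebra]; exact Localization.isLocalHom_localRingHom q q'.asIdeal _ rfl
  haveI : Module.FaithfullyFlat Bq Cq := Module.FaithfullyFlat.of_flat_of_isLocalHom
  rw [Module.mem_freeLocus_iff_tensor _ Cq] at h
  haveI : IsLocalization.AtPrime Bq (PrimeSpectrum.comap (algebraMap B B') q').asIdeal :=
    inferInstanceAs (IsLocalization.AtPrime Bq q)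
  rw [Module.mem_freeLocus_iff_tensor _ Bq]
  haveI : Module.Free Cq (Cq ⊗[B'] (B' ⊗[B] M)) := h
  haveI : Module.Flat Cq (Cq ⊗[B] M) :=
    Module.Flat.of_linearEquiv (AlgebraTensorModule.cancelBaseChange B B' Cq Cq M).symm
  haveI : Module.Flat Cq (Cq ⊗[Bq] (Bq ⊗[B] M)) :=
    Module.Flat.of_linearEquiv (AlgebraTensorModule.cancelBaseChange B Bq Cq Cq M)
  haveI : Module.Flat Bq (Bq ⊗[B] M) := Module.Flat.of_flat_tensorProduct _ _ Cq
  exact Module.free_of_flat_of_isLocalRing

theorem smoothLocus_of_baseChange {A B A' : Type u} [CommRing A] [CommRing B] [CommRing A']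
    [Algebra A B] [Algebra A A'] [Module.Flat A A'] [Algebra.FinitePresentation A B]
    (q' : PrimeSpectrum (A' ⊗[A] B)) (h : q' ∈ Algebra.smoothLocus A' (A' ⊗[A] B)) :
    PrimeSpectrum.comap (Algebra.TensorProduct.includeRight (R := A) (A := A') (B := B)).toRingHom q'
      ∈ Algebra.smoothLocus A B := by
  letI : Algebra B (A' ⊗[A] B) := Algebra.TensorProduct.rightAlgebra
  let B' := A' ⊗[A] B
  haveI : Module.Flat B B' := Module.Flat.of_linearEquiv
    (Algebra.TensorProduct.commRight A B A').toLinearEquiv.symm
  rw [Algebra.smoothLocus_eq_compl_support_inter] at h ⊢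
  obtain ⟨h1, h2⟩ := h
  refine ⟨?_, ?_⟩
  · rw [Set.mem_compl_iff, Module.notMem_support_iff'] at h1 ⊢
    intro x
    let ψ : B' ⊗[B] Algebra.H1Cotangent A B →ₗ[B'] Algebra.H1Cotangent A' B' :=
      (Algebra.H1Cotangent.map A A' B B').liftBaseChange B'
    have hψ : Function.Injective ψ := by
      let e := Algebra.IsPushout.cancelBaseChange A A' B B' (Algebra.H1Cotangent A B)
      have : ψ ∘ e.symm = Algebra.tensorH1CotangentOfFlat A B A' := by
        funext z
        induction z using TensorProduct.induction_on with
        | zero => simp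
        | add a b ha hb => simp only [Function.comp_apply, map_add] at ha hb ⊢; rw [ha, hb]
        | tmul t m =>
          rw [Algebra.tensorH1CotangentOfFlat_tmul]
          have : e.symm (t ⊗ₜ m) = algebraMap A' B' t ⊗ₜ m :=
            Algebra.IsPushout.cancelBaseChangeAux_symm_tmul A A' B B' _ t m
          simp only [Function.comp_apply, this, ψ, LinearMap.liftBaseChange_tmul, algebraMap_smul]
          rfl
      intro a b hab
      obtain ⟨a, rfl⟩ := e.symm.surjective a
      obtain ⟨b, rfl⟩ := e.symm.surjective b
      congr 1
      exact (Algebra.tensorH1CotangentOfFlat A B A').injective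
        ((congrFun this a).symm.trans (hab.trans (congrFun this b)))
    obtain ⟨s, hs, hsx⟩ := h1 (Algebra.H1Cotangent.map A A' B B' x)
    by_contra hx
    push Not at hx
    let J : Ideal B := (LinearMap.toSpanSingleton B _ x).ker
    have hsJ : s ∈ J.map (algebraMap B B') := by
      have h0 : ψ (s ⊗ₜ x) = 0 := by simpa [ψ] using hsx
      have hex := LinearMap.exact_subtype_ker_map (LinearMap.toSpanSingleton B _ x)
      have := (Module.Flat.lTensor_exact B' hex (s ⊗ₜ 1)).1 (hψ (by simpa using h0))
      obtain ⟨z, hz⟩ := this
      have key : ∀ z : B' ⊗[B] J, TensorProduct.rid B B' (J.subtype.lTensor B' z) ∈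
          J.map (algebraMap B B') := by
        intro z
        induction z using TensorProduct.induction_on with
        | zero => simp
        | add a b ha hb => simp only [map_add]; exact add_mem ha hb
        | tmul a j =>
          simp only [LinearMap.lTensor_tmul, Submodule.coe_subtype, TensorProduct.rid_tmul,
            Algebra.smul_def]
          exact Ideal.mul_mem_right _ _ (Ideal.mem_map_of_mem _ j.2)
      have := key z
      rw [hz] at this
      simpa using this
    refine hs ?_
    refine (Ideal.map_le_iff_le_comap.2 ?_) hsJ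
    intro b hb
    by_contra hbq
    exact hx b hbq (by simpa [J] using hb)
  · refine free_localized_of_baseChange (M := Ω[B⁄A]) q' ?_
    rw [Module.freeLocus_congr (KaehlerDifferential.tensorKaehlerEquiv A A' B B')]
    exact h2

end Groth.Agent.Descend
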