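import Mathlib.AlgebraicGeometry.Morphisms.Etale
import Mathlib.AlgebraicGeometry.Morphisms.FlatMono
import Mathlib.AlgebraicGeometry.PullbackCarrier
import Groth.Agent.Lib.FlatH4.FlatLocusScheme
import Groth.Agent.Lib.SchBasic.Basic
import Groth.Agent.Lib.AlgSpDescent.RingSource
import Groth.Agent.Lib.Descend.SmoothAtRing

/-!
# Unramified, etale and smooth at a point: descent along morphisms flat at the point
-/

universe u

set_option linter.style.haveILetI false

open CategoryTheory CategoryTheory.Limits AlgebraicGeometry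

namespace Groth.Agent.Descend

theorem flat_stalkMap_of_comp {W X Y : Scheme.{u}} (q : W ⟶ X) (f : X ⟶ Y) (w : W)
    (hq : (q.stalkMap w).hom.Flat) (h : ((q ≫ f).stalkMap w).hom.Flat) :
    (f.stalkMap (q w)).hom.Flat := by
  rw [Scheme.Hom.stalkMap_comp] at h
  change ((q.stalkMap w).hom.comp (f.stalkMap (q w)).hom).Flat at h
  algebraize [(f.stalkMap (q w)).hom, (q.stalkMap w).hom,
    (q.stalkMap w).hom.comp (f.stalkMap (q w)).hom]
  have : Module.FaithfullyFlat (X.presheaf.stalk (q w)) (W.presheaf.stalk w) :=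
    @Module.FaithfullyFlat.of_flat_of_isLocalHom _ _ _ _ _ _ _ ‹_› (q.toLRSHom.prop w)
  exact AlgSpDescent.flat_of_faithfullyFlat_source (Y.presheaf.stalk (f (q w)))
    (X.presheaf.stalk (q w)) (W.presheaf.stalk w)

theorem flat_of_stalk_on {X Y : Scheme.{u}} (f : X ⟶ Y) (V : X.Opens)
    (h : ∀ x ∈ V, (f.stalkMap x).hom.Flat) : Flat (V.ι ≫ f) := by
  refine Flat.of_stalkMap _ fun v => ?_
  rw [Scheme.Hom.stalkMap_comp]
  exact RingHom.Flat.comp (h _ v.2) (Flat.stalkMap V.ι v)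

theorem exists_open_flat {X Y : Scheme.{u}} (f : X ⟶ Y) [LocallyOfFinitePresentation f] (x : X)
    (h : (f.stalkMap x).hom.Flat) : ∃ V : X.Opens, x ∈ V ∧ Flat (V.ι ≫ f) :=
  ⟨⟨_, FlatH4.isOpen_flatLocus f⟩, h, flat_of_stalk_on f _ fun _ hx => hx⟩

theorem locallyOfFinitePresentation_diagonal {Y S : Scheme.{u}} (f : Y ⟶ S)
    [LocallyOfFiniteType f] : LocallyOfFinitePresentation (pullback.diagonal f) := by
  haveI : LocallyOfFinitePresentation (pullback.diagonal f ≫ pullback.fst f f) := by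
    rw [pullback.diagonal_fst]; infer_instance
  exact SchBasic.locallyOfFinitePresentation_of_comp (pullback.diagonal f) (pullback.fst f f)

/-- A morphism is unramified near a point where its diagonal is flat. -/
theorem unramified_nhd_of_diagonal_flat {Y S : Scheme.{u}} (f : Y ⟶ S) [LocallyOfFiniteType f]
    (y : Y) (h : ((pullback.diagonal f).stalkMap y).hom.Flat) :
    ∃ V : Y.Opens, y ∈ V ∧ FormallyUnramified (V.ι ≫ f) := by
  haveI := locallyOfFinitePresentation_diagonal f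
  obtain ⟨V, hyV, hV⟩ := exists_open_flat (pullback.diagonal f) y h
  refine ⟨V, hyV, ?_⟩
  haveI : IsOpenImmersion (V.ι ≫ pullback.diagonal f) := IsOpenImmersion.of_flat_of_mono _
  let j := pullback.map (V.ι ≫ f) (V.ι ≫ f) f f V.ι V.ι (𝟙 _) (Category.comp_id _) (Category.comp_id _)
  haveI : IsOpenImmersion j :=
    MorphismProperty.pullbackMap (P := @IsOpenImmersion)
      inferInstance inferInstance rfl rfl
  haveI : IsOpenImmersion (pullback.diagonal (V.ι ≫ f) ≫ j) := by
    rw [show pullback.diagonal (V.ι ≫ f) ≫ j = V.ι ≫ pullback.diagonal f by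
      apply pullback.hom_ext <;> simp [j, pullback.lift_fst, pullback.lift_snd]]
    infer_instance
  haveI := IsOpenImmersion.of_comp (pullback.diagonal (V.ι ≫ f)) j
  infer_instance

theorem etale_nhd_of_flat_of_unramified {Y S : Scheme.{u}} (f : Y ⟶ S)
    [LocallyOfFinitePresentation f] (y : Y) (hfl : (f.stalkMap y).hom.Flat)
    (hu : ∃ V : Y.Opens, y ∈ V ∧ FormallyUnramified (V.ι ≫ f)) :
    ∃ V : Y.Opens, y ∈ V ∧ Etale (V.ι ≫ f) := by
  obtain ⟨V, hyV, hV⟩ := hu
  obtain ⟨W, hyW, hW⟩ := exists_open_flat f y hfl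
  refine ⟨V ⊓ W, ⟨hyV, hyW⟩, ?_⟩
  haveI : Flat ((V ⊓ W).ι ≫ f) := by
    rw [← Scheme.homOfLE_ι _ (inf_le_right : V ⊓ W ≤ W), Category.assoc]
    infer_instance
  haveI : FormallyUnramified ((V ⊓ W).ι ≫ f) := by
    rw [← Scheme.homOfLE_ι _ (inf_le_left : V ⊓ W ≤ V), Category.assoc]
    exact MorphismProperty.comp_mem @FormallyUnramified _ _ inferInstance ‹_›
  exact Etale.of_formallyUnramified_of_flat _

/-- If `g` is flat at `x` and `g ≫ f` is unramified near `x`, then `f` is unramified near `g x`. -/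
theorem unramified_nhd_descends {X Y S : Scheme.{u}} (f : Y ⟶ S) (g : X ⟶ Y)
    [LocallyOfFiniteType f] [LocallyOfFinitePresentation (g ≫ f)] (x : X)
    (hg : (g.stalkMap x).hom.Flat)
    (hh : ∃ U : X.Opens, x ∈ U ∧ FormallyUnramified (U.ι ≫ g ≫ f)) :
    ∃ V : Y.Opens, g x ∈ V ∧ FormallyUnramified (V.ι ≫ f) := by
  haveI := SchBasic.locallyOfFinitePresentation_of_comp g f
  obtain ⟨U, hxU, hU⟩ := hh
  obtain ⟨V, hxV, hV⟩ := exists_open_flat g x hg
  let q := (U ⊓ V).ι ≫ g
  haveI : Flat q := by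
    dsimp only [q]
    rw [← Scheme.homOfLE_ι _ (inf_le_right : U ⊓ V ≤ V), Category.assoc]
    infer_instance
  haveI : FormallyUnramified (q ≫ f) := by
    rw [Category.assoc, ← Scheme.homOfLE_ι _ (inf_le_left : U ⊓ V ≤ U), Category.assoc]
    exact MorphismProperty.comp_mem @FormallyUnramified _ _ inferInstance ‹_›
  haveI : LocallyOfFiniteType (q ≫ f) := by rw [Category.assoc]; infer_instance
  let m := pullback.map (q ≫ f) (q ≫ f) f f q q (𝟙 _) (Category.comp_id _) (Category.comp_id _)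
  haveI : Flat m := MorphismProperty.pullbackMap (P := @Flat)
    inferInstance inferInstance rfl rfl
  have hm : q ≫ pullback.diagonal f = pullback.diagonal (q ≫ f) ≫ m := by
    apply pullback.hom_ext <;> simp [m, pullback.lift_fst, pullback.lift_snd]
  have : g x = q ⟨x, hxU, hxV⟩ := rfl
  rw [this]
  refine unramified_nhd_of_diagonal_flat f _ (flat_stalkMap_of_comp q _ _ (Flat.stalkMap q _) ?_)
  rw [hm]
  exact Flat.stalkMap _ _

theorem etale_nhd_descends {X Y S : Scheme.{u}} (f : Y ⟶ S) (g : X ⟶ Y)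
    [LocallyOfFinitePresentation f] [LocallyOfFinitePresentation (g ≫ f)] (x : X)
    (hg : (g.stalkMap x).hom.Flat)
    (hh : ∃ U : X.Opens, x ∈ U ∧ Etale (U.ι ≫ g ≫ f)) :
    ∃ V : Y.Opens, g x ∈ V ∧ Etale (V.ι ≫ f) := by
  obtain ⟨U, hxU, hU⟩ := hh
  refine etale_nhd_of_flat_of_unramified f _ (flat_stalkMap_of_comp g f x hg ?_)
    (unramified_nhd_descends f g x hg ⟨U, hxU, inferInstance⟩)
  have h1 := Flat.stalkMap (U.ι ≫ g ≫ f) ⟨x, hxU⟩
  exact flat_stalkMap_of_comp U.ι (g ≫ f) ⟨x, hxU⟩ (Flat.stalkMap _ _) h1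

end Groth.Agent.Descend
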