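import Groth.Agent.Lib.Descend.PointLocal
import Mathlib.AlgebraicGeometry.Morphisms.Smooth
import Mathlib.AlgebraicGeometry.Stalk

/-!
# Unramified, etale and smooth at a point: descent along a base change flat at the point
-/

universe u

set_option linter.style.haveILetI false

open CategoryTheory CategoryTheory.Limits AlgebraicGeometry

namespace Groth.Agent.Descend

theorem flat_fromSpecStalk {X : Scheme.{u}} (x : X) : Flat (X.fromSpecStalk x) := by
  obtain ⟨U, hU, hxU, -⟩ := exists_isAffineOpen_mem_and_subset (X := X) (x := x) (U := ⊤) trivial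
  rw [← hU.fromSpecStalk_eq_fromSpecStalk hxU, IsAffineOpen.fromSpecStalk]
  haveI : Flat (Spec.map (X.presheaf.germ U x hxU)) := by
    rw [HasRingHomProperty.Spec_iff (P := @Flat)]
    letI := X.presheaf.algebra_section_stalk (⟨x, hxU⟩ : U)
    haveI := hU.isLocalization_stalk ⟨x, hxU⟩
    exact IsLocalization.flat (X.presheaf.stalk x) (hU.primeIdealOf ⟨x, hxU⟩).asIdeal.primeCompl
  infer_instance

/-- A base change flat at a point may be replaced by a flat one. -/
theorem exists_flat_baseChange {P X Y Y' : Scheme.{u}} {fst : P ⟶ X} {snd : P ⟶ Y'} {f : X ⟶ Y}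
    {g : Y' ⟶ Y} (hP : IsPullback fst snd f g) (x' : P)
    (hg : (g.stalkMap (snd x')).hom.Flat) (Pr : MorphismProperty Scheme.{u})
    [Pr.IsStableUnderBaseChange] (h : ∃ U : P.Opens, x' ∈ U ∧ Pr (U.ι ≫ snd)) :
    ∃ (Q Z : Scheme.{u}) (a : Q ⟶ X) (b : Q ⟶ Z) (k : Z ⟶ Y), IsPullback a b f k ∧ Flat k ∧
      ∃ z : Q, a z = fst x' ∧ ∃ U : Q.Opens, z ∈ U ∧ Pr (U.ι ≫ b) := by
  obtain ⟨U, hxU, hU⟩ := h
  let ι := Y'.fromSpecStalk (snd x')
  let p := pullback.fst snd ι
  haveI : Flat (ι ≫ g) := by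
    haveI : Flat (Spec.map (g.stalkMap (snd x'))) :=
      (HasRingHomProperty.Spec_iff (P := @Flat)).2 hg
    haveI := flat_fromSpecStalk (g (snd x'))
    rw [← Scheme.SpecMap_stalkMap_fromSpecStalk]
    infer_instance
  obtain ⟨z, hz, -⟩ := Scheme.Pullback.exists_preimage_pullback (f := snd) (g := ι) x'
    (IsLocalRing.closedPoint _) Scheme.fromSpecStalk_closedPoint.symm
  refine ⟨pullback snd ι, _, p ≫ fst, pullback.snd snd ι, ι ≫ g,
    (IsPullback.of_hasPullback snd ι).paste_horiz hP, inferInstance, z, ?_,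
    p ⁻¹ᵁ U, show p z ∈ U by rw [hz]; exact hxU, ?_⟩
  · rw [Scheme.Hom.comp_apply, hz]
  · exact MorphismProperty.of_isPullback
      ((isPullback_morphismRestrict p U).paste_vert (IsPullback.of_hasPullback snd ι)) hU

theorem unramified_nhd_of_flat_baseChange {P X Y Y' : Scheme.{u}} {fst : P ⟶ X} {snd : P ⟶ Y'}
    {f : X ⟶ Y} {g : Y' ⟶ Y} (hP : IsPullback fst snd f g) [LocallyOfFiniteType f] [Flat g]
    (x' : P) (h : ∃ U : P.Opens, x' ∈ U ∧ FormallyUnramified (U.ι ≫ snd)) :
    ∃ V : X.Opens, fst x' ∈ V ∧ FormallyUnramified (V.ι ≫ f) := by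
  obtain ⟨U, hxU, hU⟩ := h
  haveI : LocallyOfFiniteType snd := MorphismProperty.of_isPullback hP ‹_›
  haveI : Flat fst := MorphismProperty.of_isPullback hP.flip ‹_›
  let D := ((IsPullback.of_hasPullback snd snd).flip.paste_horiz hP)
  let n := pullback.map f (fst ≫ f) f f (𝟙 X) fst (𝟙 Y) (by simp) (by simp)
  haveI : Flat n := MorphismProperty.pullbackMap (P := @Flat) inferInstance inferInstance
    (Category.id_comp f).symm rfl
  have D' : IsPullback (pullback.snd snd snd ≫ fst) (pullback.fst snd snd) f (fst ≫ f) := by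
    rw [hP.w]; exact D
  let m : pullback snd snd ⟶ pullback f f := D'.isoPullback.hom ≫ n
  have hm : fst ≫ pullback.diagonal f = pullback.diagonal snd ≫ m := by
    apply pullback.hom_ext <;> simp [m, n, pullback.lift_fst, pullback.lift_snd]
  refine unramified_nhd_of_diagonal_flat f _ (flat_stalkMap_of_comp fst _ _ (Flat.stalkMap fst _) ?_)
  haveI : Flat (U.ι ≫ pullback.diagonal snd) := by
    haveI : LocallyOfFiniteType (U.ι ≫ snd) := inferInstance
    let j := pullback.map (U.ι ≫ snd) (U.ι ≫ snd) snd snd U.ι U.ι (𝟙 _) (Category.comp_id _)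
      (Category.comp_id _)
    haveI : Flat j := MorphismProperty.pullbackMap (P := @Flat) inferInstance inferInstance rfl rfl
    rw [show U.ι ≫ pullback.diagonal snd = pullback.diagonal (U.ι ≫ snd) ≫ j by
      apply pullback.hom_ext <;> simp [j, pullback.lift_fst, pullback.lift_snd]]
    infer_instance
  have : Flat (U.ι ≫ fst ≫ pullback.diagonal f) := by
    rw [hm, ← Category.assoc]; infer_instance
  exact flat_stalkMap_of_comp U.ι _ ⟨x', hxU⟩ (Flat.stalkMap _ _) (Flat.stalkMap _ _)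

theorem etale_nhd_of_flat_baseChange {P X Y Y' : Scheme.{u}} {fst : P ⟶ X} {snd : P ⟶ Y'}
    {f : X ⟶ Y} {g : Y' ⟶ Y} (hP : IsPullback fst snd f g) [LocallyOfFinitePresentation f] [Flat g]
    (x' : P) (h : ∃ U : P.Opens, x' ∈ U ∧ Etale (U.ι ≫ snd)) :
    ∃ V : X.Opens, fst x' ∈ V ∧ Etale (V.ι ≫ f) := by
  obtain ⟨U, hxU, hU⟩ := h
  haveI : Flat fst := MorphismProperty.of_isPullback hP.flip ‹_›
  refine etale_nhd_of_flat_of_unramified f _ ?_
    (unramified_nhd_of_flat_baseChange hP x' ⟨U, hxU, inferInstance⟩)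
  refine flat_stalkMap_of_comp fst f x' (Flat.stalkMap fst _) ?_
  have h1 : Flat (U.ι ≫ fst ≫ f) := by rw [hP.w, ← Category.assoc]; infer_instance
  exact flat_stalkMap_of_comp U.ι (fst ≫ f) ⟨x', hxU⟩ (Flat.stalkMap _ _) (Flat.stalkMap _ _)

theorem mem_smoothLocus_comp_iff {X Y Z : Scheme.{u}} (e : X ⟶ Y) (i : Y ⟶ Z) [IsOpenImmersion i]
    [LocallyOfFinitePresentation e] (x : X) :
    x ∈ (e ≫ i).smoothLocus ↔ x ∈ e.smoothLocus := by
  rw [Scheme.Hom.mem_smoothLocus, Scheme.Hom.mem_smoothLocus, Scheme.Hom.stalkMap_comp]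
  exact RingHom.FormallySmooth.respectsIso.cancel_left_isIso (i.stalkMap (e x)) (e.stalkMap x)

theorem mem_smoothLocus_SpecMap_iff {R S : Type u} [CommRing R] [CommRing S] [Algebra R S]
    [LocallyOfFinitePresentation (Spec.map (CommRingCat.ofHom (algebraMap R S)))]
    (p : ↥(Spec (CommRingCat.of S))) :
    p ∈ (Spec.map (CommRingCat.ofHom (algebraMap R S))).smoothLocus ↔
      (show PrimeSpectrum S from p) ∈ Algebra.smoothLocus R S := by
  refine Scheme.Hom.mem_smoothLocus.trans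
    ((RingHom.FormallySmooth.respectsIso.arrow_mk_iso_iff (Scheme.arrowStalkMapSpecIso _ p)).trans ?_)
  let q : PrimeSpectrum S := p
  show (Localization.localRingHom (q.asIdeal.comap (algebraMap R S)) q.asIdeal (algebraMap R S) rfl).FormallySmooth ↔
    Algebra.FormallySmooth R (Localization.AtPrime q.asIdeal)
  let Rp := Localization.AtPrime (q.asIdeal.comap (algebraMap R S))
  let Sq := Localization.AtPrime q.asIdeal
  let r := Localization.localRingHom (q.asIdeal.comap (algebraMap R S)) q.asIdeal (algebraMap R S) rfl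
  change r.FormallySmooth ↔ Algebra.FormallySmooth R Sq
  letI : Algebra Rp Sq := r.toAlgebra
  haveI : IsScalarTower R Rp Sq := IsScalarTower.of_algebraMap_eq fun x => by
    simp [r, Rp, Sq, RingHom.algebraMap_toAlgebra, Localization.localRingHom_to_map,
      IsScalarTower.algebraMap_apply R S (Localization.AtPrime q.asIdeal)]
  haveI : Algebra.FormallyEtale R Rp :=
    .of_isLocalization (q.asIdeal.comap (algebraMap R S)).primeCompl
  exact (RingHom.formallySmooth_algebraMap).trans Algebra.FormallySmooth.iff_restrictScalars.symm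

theorem smooth_nhd_iff_mem_smoothLocus {X Y : Scheme.{u}} (f : X ⟶ Y)
    [LocallyOfFinitePresentation f] (x : X) :
    (∃ U : X.Opens, x ∈ U ∧ Smooth (U.ι ≫ f)) ↔ x ∈ f.smoothLocus := by
  refine ⟨fun ⟨U, hxU, hU⟩ => ?_, fun h => ⟨f.smoothLocus, h, ?_⟩⟩
  · exact ((Scheme.Hom.preimage_smoothLocus_eq U.ι f).ge
      ((Scheme.Hom.smoothLocus_eq_top (U.ι ≫ f)).ge (Set.mem_univ (⟨x, hxU⟩ : U.toScheme))))
  · rw [← Scheme.Hom.smoothLocus_eq_top_iff, ← Scheme.Hom.preimage_smoothLocus_eq,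
      Scheme.Opens.ι_preimage_self]

open TensorProduct in
theorem mem_smoothLocus_of_flat_baseChange {P X Y Y' : Scheme.{u}} {fst : P ⟶ X} {snd : P ⟶ Y'}
    {f : X ⟶ Y} {g : Y' ⟶ Y} (hP : IsPullback fst snd f g) [LocallyOfFinitePresentation f] [Flat g]
    [LocallyOfFinitePresentation snd]
    (x' : P) (h : x' ∈ snd.smoothLocus) : fst x' ∈ f.smoothLocus := by
  obtain ⟨U, hU, hyU, -⟩ :=
    exists_isAffineOpen_mem_and_subset (X := Y) (x := f (fst x')) (U := ⊤) trivial
  obtain ⟨V, hV, hxV, hVU⟩ :=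
    exists_isAffineOpen_mem_and_subset (X := X) (x := fst x') (U := f ⁻¹ᵁ U) hyU
  have hyU' : g (snd x') ∈ U := by
    rw [← Scheme.Hom.comp_apply, ← hP.w, Scheme.Hom.comp_apply]; exact hyU
  obtain ⟨U', hU', hyU'', hUU⟩ :=
    exists_isAffineOpen_mem_and_subset (X := Y') (x := snd x') (U := g ⁻¹ᵁ U) hyU'
  have hfp := f.finitePresentation_appLE hU hV hVU
  have hgf := Flat.flat_appLE g hU hU' hUU
  algebraize [(f.appLE U V hVU).hom, (g.appLE U U' hUU).hom]
  let A := Γ(Y, U)
  let B := Γ(X, V)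
  let A' := Γ(Y', U')
  let a := Spec.map (g.appLE U U' hUU)
  let b := Spec.map (f.appLE U V hVU)
  have ha : a ≫ hU.fromSpec = hU'.fromSpec ≫ g := IsAffineOpen.SpecMap_appLE_fromSpec g hU hU' hUU
  have hb : b ≫ hU.fromSpec = hV.fromSpec ≫ f := IsAffineOpen.SpecMap_appLE_fromSpec f hU hV hVU
  let j : pullback a b ⟶ P := hP.lift (pullback.snd a b ≫ hV.fromSpec)
    (pullback.fst a b ≫ hU'.fromSpec)
    (by rw [Category.assoc, ← hb, ← pullback.condition_assoc, ha, ← Category.assoc])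
  haveI : IsOpenImmersion j := by
    have : j = pullback.map a b g f hU'.fromSpec hV.fromSpec hU.fromSpec ha hb ≫
        (IsPullback.isoPullback hP.flip).inv := by
      apply hP.hom_ext <;> simp [j, pullback.lift_fst, pullback.lift_snd]
    rw [this]; infer_instance
  let O : P.Opens := fst ⁻¹ᵁ V ⊓ snd ⁻¹ᵁ U'
  have h1 : Set.range (O.ι ≫ fst) ⊆ Set.range hV.fromSpec := by
    rintro _ ⟨z, rfl⟩; rw [hV.range_fromSpec]; exact z.2.1
  have h2 : Set.range (O.ι ≫ snd) ⊆ Set.range hU'.fromSpec := by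
    rintro _ ⟨z, rfl⟩; rw [hU'.range_fromSpec]; exact z.2.2
  let s : O.toScheme ⟶ pullback a b := pullback.lift (IsOpenImmersion.lift hU'.fromSpec _ h2)
    (IsOpenImmersion.lift hV.fromSpec _ h1) (by
      rw [← cancel_mono hU.fromSpec, Category.assoc, Category.assoc, ha, hb,
        IsOpenImmersion.lift_fac_assoc, IsOpenImmersion.lift_fac_assoc, Category.assoc,
        Category.assoc, hP.w])
  have hs : s ≫ j = O.ι := by
    apply hP.hom_ext <;>
      simp [s, j, IsOpenImmersion.lift_fac, pullback.lift_fst_assoc, pullback.lift_snd_assoc]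
  let z := s ⟨x', hxV, hyU''⟩
  have hz : j z = x' := by
    refine (Scheme.Hom.comp_apply s j _).symm.trans ?_
    rw [hs]; rfl
  let e : pullback a b ≅ Spec (.of (A' ⊗[A] B)) := pullbackSpecIso A A' B
  let z' := e.hom z
  let iA := Spec.map (CommRingCat.ofHom (algebraMap A' (A' ⊗[A] B)))
  haveI : LocallyOfFinitePresentation b := by
    rw [LocallyOfFinitePresentation.SpecMap_iff]; exact hfp
  haveI : LocallyOfFinitePresentation (Spec.map (CommRingCat.ofHom (algebraMap A B))) :=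
    ‹LocallyOfFinitePresentation b›
  haveI : LocallyOfFinitePresentation (pullback.fst a b) :=
    inferInstance
  have he : e.inv ≫ pullback.fst a b = iA := pullbackSpecIso_inv_fst' A A' B
  haveI : LocallyOfFinitePresentation iA := by rw [← he]; infer_instance
  have hzA : (show PrimeSpectrum (A' ⊗[A] B) from z') ∈ Algebra.smoothLocus A' (A' ⊗[A] B) := by
    refine (mem_smoothLocus_SpecMap_iff z').1 ((mem_smoothLocus_comp_iff iA hU'.fromSpec z').1 ?_)
    have h3 : iA ≫ hU'.fromSpec = (e.inv ≫ j) ≫ snd := by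
      simp [← he, j, e]
    have h4 := Scheme.Hom.preimage_smoothLocus_eq (e.inv ≫ j) snd
    simp only [h3, ← h4]
    show (e.inv ≫ j) z' ∈ snd.smoothLocus
    rw [Scheme.Hom.comp_apply, show e.inv z' = z by simp [z', ← Scheme.Hom.comp_apply], hz]
    exact h
  have hzB := (mem_smoothLocus_SpecMap_iff (R := A) (S := B) _).2 (smoothLocus_of_baseChange _ hzA)
  have h5 : fst x' = hV.fromSpec (pullback.snd a b z) := by
    rw [← hz, ← Scheme.Hom.comp_apply, ← Scheme.Hom.comp_apply, hP.lift_fst]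
    rfl
  have h6 := Scheme.Hom.preimage_smoothLocus_eq hV.fromSpec f
  rw [h5]
  show pullback.snd a b z ∈ hV.fromSpec ⁻¹ᵁ f.smoothLocus
  rw [h6]
  simp only [← hb]
  rw [mem_smoothLocus_comp_iff]
  have hsnd : e.hom ≫ Spec.map (CommRingCat.ofHom
      (Algebra.TensorProduct.includeRight (R := A) (A := A') (B := B)).toRingHom) = pullback.snd a b :=
    pullbackSpecIso_hom_snd A A' B
  rw [← hsnd, Scheme.Hom.comp_apply]
  exact hzB

theorem smooth_nhd_of_baseChange_flatAt {P X Y Y' : Scheme.{u}} {fst : P ⟶ X} {snd : P ⟶ Y'}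
    {f : X ⟶ Y} {g : Y' ⟶ Y} (hP : IsPullback fst snd f g) [LocallyOfFinitePresentation f]
    (x' : P) (hg : (g.stalkMap (snd x')).hom.Flat)
    (h : ∃ U : P.Opens, x' ∈ U ∧ Smooth (U.ι ≫ snd)) :
    ∃ V : X.Opens, fst x' ∈ V ∧ Smooth (V.ι ≫ f) := by
  obtain ⟨Q, Z, a, b, k, hQ, hk, z, hz, hU⟩ := exists_flat_baseChange hP x' hg @Smooth h
  haveI : LocallyOfFinitePresentation b := MorphismProperty.of_isPullback hQ ‹_›
  rw [smooth_nhd_iff_mem_smoothLocus, ← hz]
  exact mem_smoothLocus_of_flat_baseChange hQ z ((smooth_nhd_iff_mem_smoothLocus b z).1 hU)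

theorem etale_nhd_of_baseChange_flatAt {P X Y Y' : Scheme.{u}} {fst : P ⟶ X} {snd : P ⟶ Y'}
    {f : X ⟶ Y} {g : Y' ⟶ Y} (hP : IsPullback fst snd f g) [LocallyOfFinitePresentation f]
    (x' : P) (hg : (g.stalkMap (snd x')).hom.Flat)
    (h : ∃ U : P.Opens, x' ∈ U ∧ Etale (U.ι ≫ snd)) :
    ∃ V : X.Opens, fst x' ∈ V ∧ Etale (V.ι ≫ f) := by
  obtain ⟨Q, Z, a, b, k, hQ, hk, z, hz, hU⟩ := exists_flat_baseChange hP x' hg @Etale h
  rw [← hz]
  exact etale_nhd_of_flat_baseChange hQ z hU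

end Groth.Agent.Descend
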