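import Mathlib.AlgebraicGeometry.AffineTransitionLimit
import Mathlib.AlgebraicGeometry.Morphisms.UniversallyInjective
import Mathlib.AlgebraicGeometry.Morphisms.Affine
import Mathlib.AlgebraicGeometry.Morphisms.FinitePresentation
import Mathlib.AlgebraicGeometry.PullbackCarrier
import Mathlib.Order.BooleanSubalgebra

/-!
# Descent of properties of morphisms along cofiltered limits of schemes

A base `S`, a cofiltered system `D` of `S`-schemes affine over `S` with limit `c`, and a morphism
`f : X ⟶ S`.  The pulled back system `pbDiagram` has limit the pullback of `f` to `c.pt`.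
-/

universe u

set_option backward.isDefEq.respectTransparency false
set_option backward.defeqAttrib.useBackward true
set_option linter.style.haveILetI false

open CategoryTheory CategoryTheory.Limits AlgebraicGeometry Topology

namespace Groth.Agent.Descend

variable {I : Type u} [SmallCategory I] {S X : Scheme.{u}} (D : I ⥤ Scheme.{u})
  (t : D ⟶ (Functor.const I).obj S) (f : X ⟶ S)

@[reassoc]
lemma t_nat {i j : I} (a : i ⟶ j) : D.map a ≫ t.app j = t.app i := by
  simpa using t.naturality a

/-- The system pulled back along `f : X ⟶ S`. -/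
noncomputable def pbDiagram : I ⥤ Scheme.{u} where
  obj j := pullback f (t.app j)
  map {i j} a := pullback.lift (pullback.fst f (t.app i)) (pullback.snd f (t.app i) ≫ D.map a)
    (by rw [Category.assoc, t_nat]; exact pullback.condition)
  map_id j := by apply pullback.hom_ext <;> simp
  map_comp a b := by apply pullback.hom_ext <;> simp

/-- The projection of the pulled back system to the system. -/
noncomputable def pbSnd : pbDiagram D t f ⟶ D where
  app j := pullback.snd f (t.app j)
  naturality i j a := by simp [pbDiagram]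

/-- The projection of the pulled back system to `X`. -/
noncomputable def pbFst : pbDiagram D t f ⟶ (Functor.const I).obj X where
  app j := pullback.fst f (t.app j)
  naturality i j a := by simp [pbDiagram]

@[reassoc]
lemma pbMap_fst {i j : I} (a : i ⟶ j) :
    (pbDiagram D t f).map a ≫ pullback.fst f (t.app j) = pullback.fst f (t.app i) := by
  simp [pbDiagram]

@[reassoc]
lemma pbMap_snd {i j : I} (a : i ⟶ j) :
    (pbDiagram D t f).map a ≫ pullback.snd f (t.app j) = pullback.snd f (t.app i) ≫ D.map a := by
  simp [pbDiagram]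

lemma pbMap_isPullback {i j : I} (a : i ⟶ j) :
    IsPullback ((pbDiagram D t f).map a) (pullback.snd f (t.app i)) (pullback.snd f (t.app j))
      (D.map a) := by
  refine IsPullback.of_right ?_ (pbMap_snd D t f a) (IsPullback.of_hasPullback f (t.app j))
  rw [pbMap_fst, t_nat]
  exact IsPullback.of_hasPullback f (t.app i)

section

variable [∀ i, IsAffineHom (t.app i)]

include t in
lemma isAffineHom_map {i j : I} (a : i ⟶ j) : IsAffineHom (D.map a) := by
  haveI : IsAffineHom (D.map a ≫ t.app j) := by rw [t_nat]; infer_instance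
  exact IsAffineHom.of_comp (D.map a) (t.app j)

instance (i : I) : IsAffineHom ((pbFst D t f).app i) :=
  MorphismProperty.pullback_fst (P := @IsAffineHom) f (t.app i) (inferInstanceAs (IsAffineHom (t.app i)))

instance pb_compactSpace [CompactSpace X] (i : I) : CompactSpace ((pbDiagram D t f).obj i) :=
  haveI : CompactSpace ↥(((Functor.const I).obj X).obj i) := ‹CompactSpace X›
  QuasiCompact.compactSpace_of_compactSpace ((pbFst D t f).app i)

instance pb_quasiSeparatedSpace [QuasiSeparatedSpace X] (i : I) :
    QuasiSeparatedSpace ((pbDiagram D t f).obj i) :=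
  haveI : QuasiSeparatedSpace ↥(((Functor.const I).obj X).obj i) := ‹QuasiSeparatedSpace X›
  quasiSeparatedSpace_of_quasiSeparated ((pbFst D t f).app i)

instance pb_isAffineHom_map {i j : I} (a : i ⟶ j) : IsAffineHom ((pbDiagram D t f).map a) :=
  isAffineHom_map _ (pbFst D t f) a

include t in
lemma compactSpace_obj [CompactSpace S] (i : I) : CompactSpace (D.obj i) :=
  haveI : CompactSpace ↥(((Functor.const I).obj S).obj i) := ‹CompactSpace S›
  QuasiCompact.compactSpace_of_compactSpace (t.app i)

include t in
lemma quasiSeparatedSpace_obj [QuasiSeparatedSpace S] (i : I) : QuasiSeparatedSpace (D.obj i) :=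
  haveI : QuasiSeparatedSpace ↥(((Functor.const I).obj S).obj i) := ‹QuasiSeparatedSpace S›
  quasiSeparatedSpace_of_quasiSeparated (t.app i)

end

variable [IsCofiltered I] (c : Cone D) {q : c.pt ⟶ S} (hq : ∀ j, c.π.app j ≫ t.app j = q)
  {P : Scheme.{u}} {p : P ⟶ X} {g : P ⟶ c.pt} (hP : IsPullback p g f q)

/-- The cone with vertex the pullback to the limit. -/
noncomputable def pbCone : Cone (pbDiagram D t f) where
  pt := P
  π :=
    { app := fun j => pullback.lift p (g ≫ c.π.app j) (by rw [Category.assoc, hq, hP.w])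
      naturality := fun i j a => by
        dsimp
        rw [Category.id_comp]
        apply pullback.hom_ext <;> simp [pbDiagram] }

@[reassoc (attr := simp)]
lemma pbCone_fst (j : I) : (pbCone D t f c hq hP).π.app j ≫ pullback.fst f (t.app j) = p :=
  pullback.lift_fst _ _ _

@[reassoc (attr := simp)]
lemma pbCone_snd (j : I) :
    (pbCone D t f c hq hP).π.app j ≫ pullback.snd f (t.app j) = g ≫ c.π.app j :=
  pullback.lift_snd _ _ _

lemma pbCone_isPullback (j : I) :
    IsPullback ((pbCone D t f c hq hP).π.app j) g (pullback.snd f (t.app j)) (c.π.app j) := by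
  refine IsPullback.of_right ?_ (pbCone_snd D t f c hq hP j) (IsPullback.of_hasPullback f (t.app j))
  rw [pbCone_fst, hq]
  exact hP

/-- The pullback to the limit is the limit of the pulled back system. -/
noncomputable def pbIsLimit (hc : IsLimit c) : IsLimit (pbCone D t f c hq hP) :=
  haveI := IsCofiltered.isConnected I
  isLimitOfIsPullbackOfIsConnected (pbSnd D t f) (pbCone D t f c hq hP) c
    { hom := g
      w := fun j => (pbCone_snd D t f c hq hP j).symm }
    (fun j => pbCone_isPullback D t f c hq hP j) hc

variable {D t f c}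

variable [∀ i, IsAffineHom (t.app i)]

/-- A constructible subset of a member of the system that contains the image of the limit
contains the image of a later member. -/
lemma exists_preimage_eq_univ_of_isConstructible (hc : IsLimit c)
    [∀ {i j} (a : i ⟶ j), IsAffineHom (D.map a)] [∀ i, CompactSpace (D.obj i)]
    [∀ i, QuasiSeparatedSpace (D.obj i)]
    {i : I} (C : Set (D.obj i)) (hC : Topology.IsConstructible C)
    (h : c.π.app i ⁻¹' C = Set.univ) :
    ∃ (j : I) (a : j ⟶ i), D.map a ⁻¹' C = Set.univ := by
  obtain ⟨s, hs⟩ := (BooleanSubalgebra.mem_closure_iff_sup_sdiff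
    (s := {U : Set (D.obj i) | IsOpen U ∧ IsRetrocompact U})
    ⟨fun _ h _ h' => ⟨h.1.union h'.1, h.2.union h'.2⟩,
     fun _ h _ h' => ⟨h.1.inter h'.1, h.2.inter_isOpen h'.2 h'.1⟩⟩
    ⟨isOpen_empty, IsRetrocompact.empty⟩ ⟨isOpen_univ, IsRetrocompact.univ⟩).1 hC.compl
  have hempty : c.π.app i ⁻¹' Cᶜ = ∅ := by rw [Set.preimage_compl, h, Set.compl_univ]
  have key : ∀ x : s, ∃ (j : I) (a : j ⟶ i),
      D.map a ⁻¹' (x.1.1.1 \ x.1.2.1) = ∅ := by
    intro x
    have hsub : x.1.1.1 \ x.1.2.1 ⊆ Cᶜ := by
      rw [hs]
      exact Finset.le_sup (f := fun y => y.1.1 \ y.2.1) x.2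
    let U : (D.obj i).Opens := ⟨x.1.1.1, x.1.1.2.1⟩
    let V : (D.obj i).Opens := ⟨x.1.2.1, x.1.2.2.1⟩
    obtain ⟨j, a, hj⟩ := AlgebraicGeometry.exists_map_preimage_le_map_preimage D c hc (U := U)
      (V := V) x.1.1.2.2.isCompact (by
        intro z hz
        by_contra hz'
        exact Set.eq_empty_iff_forall_notMem.1 hempty z (hsub ⟨hz, hz'⟩))
    refine ⟨j, a, Set.eq_empty_iff_forall_notMem.2 fun z hz => hz.2 (hj hz.1)⟩
  choose j a hja using key
  obtain ⟨k, b, e, he⟩ := IsCofiltered.wideCospan a
  refine ⟨k, b, ?_⟩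
  rw [← compl_compl C, Set.preimage_compl, hs, Set.compl_univ_iff.2]
  · rw [Set.eq_empty_iff_forall_notMem]
    intro z hz
    rw [Set.mem_preimage, Finset.sup_set_eq_biUnion] at hz
    simp only [Set.mem_iUnion] at hz
    obtain ⟨x, hx, hzx⟩ := hz
    refine Set.eq_empty_iff_forall_notMem.1 (hja ⟨x, hx⟩) (D.map (e ⟨x, hx⟩) z) ?_
    rw [Set.mem_preimage]
    rw [← Scheme.Hom.comp_apply, ← D.map_comp, he]
    exact hzx

variable [CompactSpace S] [QuasiSeparatedSpace S]

/-- Surjectivity descends. -/
theorem exists_surjective (hc : IsLimit c) [QuasiCompact f] [LocallyOfFinitePresentation f]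
    (hq : ∀ j, c.π.app j ≫ t.app j = q) (hP : IsPullback p g f q) [Surjective g] :
    ∃ j, Surjective (pullback.snd f (t.app j)) := by
  obtain ⟨i⟩ := IsCofiltered.nonempty (C := I)
  haveI := fun k => compactSpace_obj D t k
  haveI := fun k => quasiSeparatedSpace_obj D t k
  haveI : ∀ {i j : I} (a : i ⟶ j), IsAffineHom (D.map a) := fun a => isAffineHom_map D t a
  haveI : CompactSpace X := QuasiCompact.compactSpace_of_compactSpace f
  have hCl : Topology.IsConstructible (Set.range (pullback.snd f (t.app i))) := by
    rw [← Set.image_univ]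
    exact ((pullback.snd f (t.app i)).isLocallyConstructible_image
      Topology.IsLocallyConstructible.univ).isConstructible
  obtain ⟨j, a, hj⟩ := exists_preimage_eq_univ_of_isConstructible hc _ hCl (by
    refine Set.eq_univ_of_forall fun z => ?_
    obtain ⟨w, rfl⟩ := g.surjective z
    refine ⟨(pbCone D t f c hq hP).π.app i w, ?_⟩
    exact congrArg (fun h : P ⟶ D.obj i => h w) (pbCone_snd D t f c hq hP i))
  refine ⟨j, ⟨fun z => ?_⟩⟩
  obtain ⟨w, hw⟩ : D.map a z ∈ Set.range (pullback.snd f (t.app i)) := by
    rw [← Set.mem_preimage, hj]; trivial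
  obtain ⟨v, -, hv⟩ := Scheme.exists_preimage_of_isPullback (pbMap_isPullback D t f a) w z hw
  exact ⟨v, hv⟩

/-- Being a monomorphism descends. -/
theorem exists_mono (hc : IsLimit c) [QuasiCompact f] [LocallyOfFiniteType f]
    (hq : ∀ j, c.π.app j ≫ t.app j = q) (hP : IsPullback p g f q) [Mono g] :
    ∃ j, Mono (pullback.snd f (t.app j)) := by
  haveI : CompactSpace X := QuasiCompact.compactSpace_of_compactSpace f
  haveI : CompactSpace ↥(pullback f f) :=
    QuasiCompact.compactSpace_of_compactSpace (pullback.fst f f)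
  let w : pullback f f ⟶ S := pullback.fst f f ≫ f
  let E := pbDiagram D t w
  haveI : HasPullback w q := inferInstance
  let hW := IsPullback.of_hasPullback w q
  have hlim := pbIsLimit D t w c hq hW hc
  obtain ⟨i⟩ := IsCofiltered.nonempty (C := I)
  have heq : pullback.fst w q ≫ pullback.fst f f = pullback.fst w q ≫ pullback.snd f f := by
    have h1 : (pullback.fst w q ≫ pullback.fst f f) ≫ f = pullback.snd w q ≫ q := by
      rw [Category.assoc]; exact pullback.condition
    have h2 : (pullback.fst w q ≫ pullback.snd f f) ≫ f = pullback.snd w q ≫ q := by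
      rw [Category.assoc, ← pullback.condition (f := f) (g := f)]; exact pullback.condition
    have h3 : hP.lift _ _ h1 = hP.lift _ _ h2 := by rw [← cancel_mono g]; simp
    simpa using congrArg (· ≫ p) h3
  obtain ⟨k, a, hk⟩ := Scheme.exists_hom_comp_eq_comp_of_locallyOfFiniteType E
    (pbFst D t w ≫ (Functor.const I).map w) f _ hlim (i := i)
    ((pbFst D t w).app i ≫ pullback.fst f f) ((pbFst D t w).app i ≫ pullback.snd f f)
    (by simp [w]) (by simp [w, pullback.condition])
    (by
      show _ ≫ pullback.fst w (t.app i) ≫ _ = _ ≫ pullback.fst w (t.app i) ≫ _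
      rw [pbCone_fst_assoc, pbCone_fst_assoc]
      exact heq)
  refine ⟨k, ⟨fun {Z} u v huv => pullback.hom_ext ?_ huv⟩⟩
  have hfw : (u ≫ pullback.fst f (t.app k)) ≫ f = (v ≫ pullback.fst f (t.app k)) ≫ f := by
    simp only [Category.assoc, pullback.condition, reassoc_of% huv]
  let z : Z ⟶ pullback w (t.app k) :=
    pullback.lift (pullback.lift _ _ hfw) (u ≫ pullback.snd f (t.app k)) (by
      simp [w, pullback.condition, reassoc_of% huv])
  have hk' : pullback.fst w (t.app k) ≫ pullback.fst f f =
      pullback.fst w (t.app k) ≫ pullback.snd f f := by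
    have := hk
    dsimp [E, pbFst] at this
    rwa [pbMap_fst_assoc, pbMap_fst_assoc] at this
  simpa [z] using congrArg (z ≫ ·) hk'

end Groth.Agent.Descend
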