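import Groth.Agent.Lib.Descend.Basic
import Groth.Agent.Lib.H12.DimZero
import Mathlib.AlgebraicGeometry.ZariskisMainTheorem

/-!
# Quasi-finiteness at a point is insensitive to base change, and descends along limits
-/

universe u

set_option backward.isDefEq.respectTransparency false
set_option backward.defeqAttrib.useBackward true
set_option linter.style.haveILetI false

open CategoryTheory CategoryTheory.Limits AlgebraicGeometry Topology

namespace Groth.Agent.Descend

theorem quasiFiniteAt_of_isOpen_fiber {X S : Scheme.{u}} (f : X ⟶ S) [LocallyOfFiniteType f]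
    {x : X} {y : S} (z : f.fiber y) (hz : f.fiberι y z = x) (h : IsOpen {z}) : f.QuasiFiniteAt x := by
  have hy : f x = y := by
    rw [← hz]
    exact (Scheme.Hom.range_fiberι f y).le ⟨z, rfl⟩
  subst hy
  have : z = f.asFiber x := (f.fiberι (f x)).isEmbedding.injective (hz.trans (Scheme.Hom.fiberι_asFiber f x).symm)
  rw [Scheme.Hom.quasiFiniteAt_iff_isOpen_singleton_asFiber, ← this]
  exact h

/-- Quasi-finiteness at a point descends along any base change. -/
theorem quasiFiniteAt_of_isPullback {X S P T : Scheme.{u}} {f : X ⟶ S} {p : P ⟶ X} {g : P ⟶ T}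
    {q : T ⟶ S} [LocallyOfFiniteType f] (hP : IsPullback p g f q) {x : P} (hx : g.QuasiFiniteAt x) :
    f.QuasiFiniteAt (p x) := by
  haveI : LocallyOfFiniteType g := MorphismProperty.of_isPullback hP ‹LocallyOfFiniteType f›
  have hopen : IsOpen {g.asFiber x} := Scheme.Hom.quasiFiniteAt_iff_isOpen_singleton_asFiber.1 hx
  let y' := g x
  let k := Spec.map (q.residueFieldMap y')
  have hk : k ≫ S.fromSpecResidueField (q y') = T.fromSpecResidueField y' ≫ q :=
    Scheme.Hom.SpecMap_residueFieldMap_fromSpecResidueField q y'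
  have hcond : (g.fiberι y' ≫ p) ≫ f = (g.fiberToSpecResidueField y' ≫ k) ≫ S.fromSpecResidueField (q y') := by
    rw [Category.assoc, hP.w, Category.assoc, hk, ← Category.assoc, ← Category.assoc]
    congr 1
    exact pullback.condition
  let φ : g.fiber y' ⟶ f.fiber (q y') := pullback.lift _ _ hcond
  have hφ : IsPullback φ (g.fiberToSpecResidueField y') (f.fiberToSpecResidueField (q y')) k := by
    refine IsPullback.of_right ?_ (pullback.lift_snd _ _ _) (IsPullback.of_hasPullback f _)
    rw [pullback.lift_fst, hk]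
    exact (IsPullback.of_hasPullback g (T.fromSpecResidueField y')).paste_horiz hP
  haveI : UniversallyOpen k := H12.universallyOpen_of_discreteTopology k
  haveI : UniversallyOpen φ := MorphismProperty.of_isPullback hφ.flip ‹UniversallyOpen k›
  refine quasiFiniteAt_of_isOpen_fiber f (φ (g.asFiber x)) ?_ ?_
  · show _ = p x
    rw [← Scheme.Hom.comp_apply]
    show (φ ≫ pullback.fst f _) _ = _
    rw [pullback.lift_fst, Scheme.Hom.comp_apply, Scheme.Hom.fiberι_asFiber]
  · rw [← Set.image_singleton]
    exact φ.isOpenMap _ hopen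

/-- A base change factoring through an open subscheme of the source. -/
theorem isPullback_factor_mono {X S P T : Scheme.{u}} {f : X ⟶ S} {p : P ⟶ X} {g : P ⟶ T}
    {q : T ⟶ S} (hP : IsPullback p g f q) {U : Scheme.{u}} (ι : U ⟶ X) [Mono ι] (p' : P ⟶ U)
    (hp' : p' ≫ ι = p) : IsPullback p' g (ι ≫ f) q := by
  refine IsPullback.of_isLimit' ⟨by rw [reassoc_of% hp', hP.w]⟩
    (PullbackCone.IsLimit.mk _ (fun s => hP.lift (s.fst ≫ ι) s.snd (by simpa using s.condition))
      (fun s => ?_) (fun s => by simp) (fun s m h1 h2 => ?_))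
  · rw [← cancel_mono ι]; simp [hp']
  · apply hP.hom_ext
    · rw [IsPullback.lift_fst, ← hp', reassoc_of% h1]
    · rw [IsPullback.lift_snd]; exact h2

variable {I : Type u} [SmallCategory I] [IsCofiltered I] {S X : Scheme.{u}} {D : I ⥤ Scheme.{u}}
  {t : D ⟶ (Functor.const I).obj S} {f : X ⟶ S} {c : Cone D} {q : c.pt ⟶ S}
  {P : Scheme.{u}} {p : P ⟶ X} {g : P ⟶ c.pt}
  [∀ i, IsAffineHom (t.app i)] [CompactSpace S]

/-- Being locally quasi-finite descends. -/
theorem exists_locallyQuasiFinite (hc : IsLimit c) [QuasiCompact f] [LocallyOfFiniteType f]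
    (hq : ∀ j, c.π.app j ≫ t.app j = q) (hP : IsPullback p g f q) [LocallyQuasiFinite g] :
    ∃ j, LocallyQuasiFinite (pullback.snd f (t.app j)) := by
  haveI : CompactSpace X := QuasiCompact.compactSpace_of_compactSpace f
  obtain ⟨i⟩ := IsCofiltered.nonempty (C := I)
  let fi := pullback.snd f (t.app i)
  have hlim := pbIsLimit D t f c hq hP hc
  obtain ⟨j, a, hj⟩ := exists_map_eq_top _ (pbCone D t f c hq hP) hlim fi.quasiFiniteLocus (by
    rw [eq_top_iff]
    intro x _
    exact quasiFiniteAt_of_isPullback (pbCone_isPullback D t f c hq hP i) (g.quasiFiniteAt x))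
  haveI : LocallyQuasiFinite (fi.quasiFiniteLocus.ι ≫ fi) := by
    rw [locallyQuasiFinite_iff_isDiscrete_preimage_singleton]
    intro y
    rw [isDiscrete_iff_discreteTopology, discreteTopology_iff_isOpen_singleton]
    rintro ⟨z, hz⟩
    have h1 : (fi.quasiFiniteLocus.ι ≫ fi).QuasiFiniteAt z := by
      rw [Scheme.Hom.quasiFiniteAt_comp_iff_of_isOpenImmersion]
      exact z.2
    have hz' : (fi.quasiFiniteLocus.ι ≫ fi) z = y := hz
    subst hz'
    have h2 := Scheme.Hom.quasiFiniteAt_iff_isOpen_singleton_asFiber.1 h1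
    rw [← (Scheme.Hom.fiberHomeo _ _).isOpen_image] at h2
    rw [Set.image_singleton] at h2
    unfold Scheme.Hom.asFiber at h2
    erw [Homeomorph.apply_symm_apply] at h2
    exact h2
  have hr : Set.range ((pbDiagram D t f).map a) ⊆ Set.range fi.quasiFiniteLocus.ι := by
    rintro _ ⟨x, rfl⟩
    rw [Scheme.Opens.range_ι]
    exact hj.ge (Set.mem_univ x)
  exact ⟨j, MorphismProperty.of_isPullback (isPullback_factor_mono (pbMap_isPullback D t f a) _
    (IsOpenImmersion.lift _ _ hr) (IsOpenImmersion.lift_fac _ _ hr)) inferInstance⟩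

end Groth.Agent.Descend
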