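import Groth.Agent.Lib.Descend.Basic
import Groth.Prelude.Def_Mor2
import Mathlib.AlgebraicGeometry.QuasiAffine

/-!
# Descent of quasi-affine morphisms along limits
-/

universe u

set_option backward.isDefEq.respectTransparency false
set_option backward.defeqAttrib.useBackward true
set_option linter.style.haveILetI false

open CategoryTheory CategoryTheory.Limits AlgebraicGeometry Topology TopologicalSpace

namespace Groth.Agent.Descend

/-- A quasi-compact morphism whose target is covered by affine opens with quasi-affine preimages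
is quasi-affine. -/
theorem isQuasiAffine_of_cover {X Y : Scheme.{u}} (f : X ⟶ Y) [QuasiCompact f] {J : Type*}
    (W : J → Y.Opens) (hW : ∀ y, ∃ j, y ∈ W j)
    (h : ∀ j, Scheme.IsQuasiAffine (f ⁻¹ᵁ W j).toScheme) :
    Mor2.IsQuasiAffine f := by
  refine ⟨inferInstance, fun V hV => ?_⟩
  haveI : CompactSpace (f ⁻¹ᵁ V).toScheme :=
    isCompact_iff_compactSpace.mp (QuasiCompact.isCompact_preimage (f := f) _ V.2 hV.isCompact)
  have key : ∀ z : (f ⁻¹ᵁ V).toScheme, ∃ R : Γ((f ⁻¹ᵁ V).toScheme, ⊤),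
      z ∈ (f ⁻¹ᵁ V).toScheme.basicOpen R ∧
        Scheme.IsQuasiAffine ((f ⁻¹ᵁ V).toScheme.basicOpen R).toScheme := by
    intro z
    obtain ⟨j, hj⟩ := hW (f z.1)
    obtain ⟨r, hr, hzr⟩ := hV.exists_basicOpen_le (V := W j) ⟨f z.1, hj⟩ z.2
    refine ⟨(f ∣_ V).appTop (V.topIso.inv r), ?_⟩
    have e : (f ⁻¹ᵁ V).ι ''ᵁ ((f ⁻¹ᵁ V).toScheme.basicOpen ((f ∣_ V).appTop (V.topIso.inv r))) =
        f ⁻¹ᵁ Y.basicOpen r := by
      rw [← Scheme.preimage_basicOpen_top, image_morphismRestrict_preimage,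
        Scheme.Opens.ι_image_basicOpen_topIso_inv]
    refine ⟨?_, ?_⟩
    · have h1 : (f ⁻¹ᵁ V).ι z ∈ (f ⁻¹ᵁ V).ι ''ᵁ
          ((f ⁻¹ᵁ V).toScheme.basicOpen ((f ∣_ V).appTop (V.topIso.inv r))) := by
        rw [e]; exact hzr
      obtain ⟨z', hz', he⟩ := h1
      rwa [(f ⁻¹ᵁ V).ι.isEmbedding.injective he] at hz'
    · haveI := h j
      let B := (f ⁻¹ᵁ V).toScheme.basicOpen ((f ∣_ V).appTop (V.topIso.inv r))
      have hB : Set.range (B.ι ≫ (f ⁻¹ᵁ V).ι) ⊆ Set.range (f ⁻¹ᵁ W j).ι := by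
        rw [Scheme.Opens.range_ι]
        rintro _ ⟨b, rfl⟩
        have h2 : (f ⁻¹ᵁ V).ι (B.ι b) ∈ f ⁻¹ᵁ Y.basicOpen r := by
          rw [← e]; exact ⟨B.ι b, b.2, rfl⟩
        exact hr h2
      haveI : IsImmersion (IsOpenImmersion.lift _ _ hB) := by
        haveI : IsImmersion (IsOpenImmersion.lift _ _ hB ≫ (f ⁻¹ᵁ W j).ι) := by
          rw [IsOpenImmersion.lift_fac]; infer_instance
        exact IsImmersion.of_comp _ (f ⁻¹ᵁ W j).ι
      haveI : CompactSpace B.toScheme :=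
        isCompact_iff_compactSpace.mp (isCompact_basicOpen _ isCompact_univ _)
      exact Scheme.IsQuasiAffine.of_isImmersion (IsOpenImmersion.lift _ _ hB)
  choose R hzR hR using key
  haveI : QuasiSeparatedSpace (f ⁻¹ᵁ V).toScheme :=
    .of_isOpenCover (U := fun z => (f ⁻¹ᵁ V).toScheme.basicOpen (R z))
      (eq_top_iff.mpr fun z _ => Opens.mem_iSup.mpr ⟨z, hzR z⟩)
      (fun _ => isRetrocompact_basicOpen _)
      (fun z => by
        haveI := hR z
        exact (isQuasiSeparated_iff_quasiSeparatedSpace _ ((f ⁻¹ᵁ V).toScheme.basicOpen (R z)).2).mpr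
          (inferInstance : QuasiSeparatedSpace ((f ⁻¹ᵁ V).toScheme.basicOpen (R z)).toScheme))
  refine Scheme.IsQuasiAffine.of_forall_exists_mem_basicOpen _ fun z => ?_
  haveI := hR z
  let Z := (f ⁻¹ᵁ V).toScheme
  let B := Z.basicOpen (R z)
  obtain ⟨_, ⟨_, ⟨s, hs, rfl⟩, rfl⟩, hzs, -⟩ :=
    (Scheme.IsQuasiAffine.isBasis_basicOpen B.toScheme).exists_subset_of_mem_open
      (Set.mem_univ (⟨z, hzR z⟩ : B.toScheme)) isOpen_univ
  haveI := isLocalization_basicOpen_of_qcqs (X := Z) isCompact_univ isQuasiSeparated_univ (R z)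
  obtain ⟨a, ⟨_, n, rfl⟩, ha⟩ := IsLocalization.exists_mk'_eq (Submonoid.powers (R z)) (B.topIso.hom s)
  refine ⟨R z * a, ?_⟩
  have hB : Z.basicOpen (R z * a) = B.ι ''ᵁ B.toScheme.basicOpen s := by
    have h1 : B.topIso.inv (B.topIso.hom s) = s := by rw [← CommRingCat.comp_apply, Iso.hom_inv_id]; rfl
    rw [← h1, Scheme.Opens.ι_image_basicOpen_topIso_inv B, ← ha, Scheme.basicOpen_mul]
    have h2 := IsLocalization.mk'_spec (M := Submonoid.powers (R z)) Γ(Z, B) a ⟨(fun x => R z ^ x) n, n, rfl⟩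
    have h3 : Z.basicOpen (algebraMap Γ(Z, ⊤) Γ(Z, B) (R z ^ n)) = B := by
      apply Scheme.basicOpen_of_isUnit
      rw [map_pow]
      exact (IsLocalization.map_units Γ(Z, B) ⟨R z, Submonoid.mem_powers _⟩).pow n
    have h4 := congrArg Z.basicOpen h2
    rw [Scheme.basicOpen_mul, h3, inf_eq_left.mpr (Z.basicOpen_le _)] at h4
    rw [h4]
    exact (Scheme.basicOpen_res Z a _).symm
  rw [hB]
  exact ⟨hs.image_of_isOpenImmersion B.ι, ⟨⟨z, hzR z⟩, hzs, rfl⟩⟩

variable {I : Type u} [SmallCategory I] [IsCofiltered I] {S X : Scheme.{u}} {D : I ⥤ Scheme.{u}}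
  {t : D ⟶ (Functor.const I).obj S} {f : X ⟶ S} {c : Cone D} {q : c.pt ⟶ S}
  {P : Scheme.{u}} {p : P ⟶ X} {g : P ⟶ c.pt}
  [∀ i, IsAffineHom (t.app i)] [CompactSpace S] [QuasiSeparatedSpace S]

/-- Being quasi-affine descends. -/
theorem exists_isQuasiAffine (hc : IsLimit c) [QuasiCompact f] [QuasiSeparated f]
    (hq : ∀ j, c.π.app j ≫ t.app j = q) (hP : IsPullback p g f q) (hg : Mor2.IsQuasiAffine g) :
    ∃ j, Mor2.IsQuasiAffine (pullback.snd f (t.app j)) := by
  obtain ⟨i⟩ := IsCofiltered.nonempty (C := I)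
  haveI : CompactSpace X := QuasiCompact.compactSpace_of_compactSpace f
  haveI : QuasiSeparatedSpace X := quasiSeparatedSpace_of_quasiSeparated f
  haveI : ∀ {i j : I} (a : i ⟶ j), IsAffineHom (D.map a) := fun a => isAffineHom_map D t a
  haveI : IsAffineHom q := by
    rw [← hq i]
    haveI := isAffineHom_π_app D c hc i
    infer_instance
  obtain ⟨s, hs⟩ := isCompact_univ.elim_finite_subcover (fun U : S.affineOpens => (U.1 : Set S))
    (fun U => U.1.2) (by
      intro x _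
      obtain ⟨_, ⟨U, hU, rfl⟩, hx, -⟩ :=
        S.isBasis_affineOpens.exists_subset_of_mem_open (Set.mem_univ x) isOpen_univ
      exact Set.mem_iUnion.2 ⟨⟨U, hU⟩, hx⟩)
  have hlim := pbIsLimit D t f c hq hP hc
  let W : s → ((pbDiagram D t f).obj i).Opens := fun U =>
    pullback.fst f (t.app i) ⁻¹ᵁ f ⁻¹ᵁ U.1.1
  have key : ∀ U : s, ∃ k : Over i,
      Scheme.IsQuasiAffine ((opensDiagram (pbDiagram D t f) i (W U)).obj k) := by
    intro U
    have hWc : IsCompact (W U : Set ((pbDiagram D t f).obj i)) :=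
      QuasiCompact.isCompact_preimage (f := (pbFst D t f).app i) _ (f ⁻¹ᵁ U.1.1).2
        (QuasiCompact.isCompact_preimage (f := f) _ U.1.1.2 U.1.2.isCompact)
    haveI (k : Over i) : CompactSpace ↥((opensDiagram (pbDiagram D t f) i (W U)).obj k) :=
      isCompact_iff_compactSpace.mp
        (QuasiCompact.isCompact_preimage (f := (pbDiagram D t f).map k.hom) _ (W U).2 hWc)
    haveI (k : Over i) : QuasiSeparatedSpace ↥((opensDiagram (pbDiagram D t f) i (W U)).obj k) :=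
      (isQuasiSeparated_iff_quasiSeparatedSpace _ ((pbDiagram D t f).map _ ⁻¹ᵁ _).2).mp
        (.of_quasiSeparatedSpace _)
    haveI : Scheme.IsQuasiAffine (opensCone (pbDiagram D t f) (pbCone D t f c hq hP) i (W U)).pt := by
      have h1 : (pbCone D t f c hq hP).π.app i ⁻¹ᵁ W U = g ⁻¹ᵁ q ⁻¹ᵁ U.1.1 := by
        show (pbCone D t f c hq hP).π.app i ⁻¹ᵁ pullback.fst f (t.app i) ⁻¹ᵁ f ⁻¹ᵁ U.1.1 = _
        rw [← Scheme.Hom.comp_preimage _ (pullback.fst f (t.app i)), pbCone_fst,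
          ← Scheme.Hom.comp_preimage, hP.w, Scheme.Hom.comp_preimage]
      show Scheme.IsQuasiAffine ((pbCone D t f c hq hP).π.app i ⁻¹ᵁ W U).toScheme
      rw [h1]
      exact hg.2 _ (U.1.2.preimage q)
    exact Scheme.exists_isQuasiAffine_of_isLimit _ _
      (isLimitOpensCone (pbDiagram D t f) (pbCone D t f c hq hP) hlim i (W U))
  choose j hj using key
  obtain ⟨k, b, e, he⟩ := IsCofiltered.wideCospan fun U => (j U).hom
  refine ⟨k, isQuasiAffine_of_cover _ (fun U : s => t.app k ⁻¹ᵁ U.1.1) ?_ ?_⟩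
  · intro y
    obtain ⟨U, hU, hy⟩ := Set.mem_iUnion₂.1 (hs (Set.mem_univ (t.app k y)))
    exact ⟨⟨U, hU⟩, hy⟩
  · intro U
    let φ : Over.mk b ⟶ j U := Over.homMk (e U) (he U)
    haveI := hj U
    haveI : IsAffineHom ((opensDiagram (pbDiagram D t f) i (W U)).map φ) := inferInstance
    have h1 := Scheme.IsQuasiAffine.of_isAffineHom ((opensDiagram (pbDiagram D t f) i (W U)).map φ)
    have h2 : (pbDiagram D t f).map b ⁻¹ᵁ W U = pullback.snd f (t.app k) ⁻¹ᵁ t.app k ⁻¹ᵁ U.1.1 := by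
      show (pbDiagram D t f).map b ⁻¹ᵁ pullback.fst f (t.app i) ⁻¹ᵁ f ⁻¹ᵁ U.1.1 = _
      rw [← Scheme.Hom.comp_preimage _ (pullback.fst f (t.app i)), pbMap_fst,
        ← Scheme.Hom.comp_preimage, pullback.condition, Scheme.Hom.comp_preimage]
    change Scheme.IsQuasiAffine ((pbDiagram D t f).map b ⁻¹ᵁ W U).toScheme at h1
    rwa [h2] at h1

end Groth.Agent.Descend
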