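import Groth.Agent.Lib.Descend.SmoothEtale
import Groth.Agent.Lib.Descend.QuasiFinite

/-!
# Descent of smooth, étale and formally unramified morphisms, quasi-compact source
-/

universe u

set_option backward.isDefEq.respectTransparency false
set_option backward.defeqAttrib.useBackward true
set_option linter.style.haveILetI false

open CategoryTheory CategoryTheory.Limits AlgebraicGeometry

namespace Groth.Agent.Descend

section Piece

variable {S X P T : Scheme.{u}} {f : X ⟶ S} {p : P ⟶ X} {g : P ⟶ T} {q : T ⟶ S}
  (V : S.Opens) (W : X.Opens) (e : W ≤ f ⁻¹ᵁ V)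

/-- The piece of a base change over `W` and `V`. -/
lemma exists_piece (hP : IsPullback p g f q) :
    ∃ (a : pullback (f.resLE V W e) (pullback.fst V.ι q) ⟶ P),
      IsPullback (pullback.fst (f.resLE V W e) (pullback.fst V.ι q)) a W.ι p ∧
      a ≫ g = pullback.snd (f.resLE V W e) (pullback.fst V.ι q) ≫ pullback.snd V.ι q := by
  have h : (pullback.fst (f.resLE V W e) (pullback.fst V.ι q) ≫ W.ι) ≫ f =
      (pullback.snd (f.resLE V W e) (pullback.fst V.ι q) ≫ pullback.snd V.ι q) ≫ q := by
    rw [Category.assoc, ← Scheme.Hom.resLE_comp_ι f e, pullback.condition_assoc, pullback.condition,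
      Category.assoc]
  refine ⟨hP.lift _ _ h, IsPullback.of_bot ?_ (hP.lift_fst _ _ h).symm hP, hP.lift_snd _ _ h⟩
  rw [hP.lift_snd, ← Scheme.Hom.resLE_comp_ι f e]
  exact ((IsPullback.of_hasPullback (f.resLE V W e) (pullback.fst V.ι q)).flip.paste_horiz
    (IsPullback.of_hasPullback V.ι q).flip).flip

end Piece

variable {I : Type u} [SmallCategory I] [IsCofiltered I] {S X : Scheme.{u}} {D : I ⥤ Scheme.{u}}
  {t : D ⟶ (Functor.const I).obj S} {f : X ⟶ S} {c : Cone D} {q : c.pt ⟶ S}
  {P : Scheme.{u}} {p : P ⟶ X} {g : P ⟶ c.pt}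
  [∀ i, IsAffineHom (t.app i)]

/-- A property local at the source descends from affine pieces, for quasi-compact source. -/
theorem exists_of_affine (Pr : MorphismProperty Scheme.{u}) [Pr.IsStableUnderBaseChange]
    [IsZariskiLocalAtSource Pr] (hopen : ∀ {A B C : Scheme.{u}} (a : A ⟶ B) (b : B ⟶ C),
      Pr a → IsOpenImmersion b → Pr (a ≫ b))
    (hc : IsLimit c) [LocallyOfFinitePresentation f] [CompactSpace X]
    (hq : ∀ j, c.π.app j ≫ t.app j = q) (hP : IsPullback p g f q) (hg : Pr g)
    (H : ∀ (S' X' : Scheme.{u}) [IsAffine S'] [IsAffine X'] (D' : I ⥤ Scheme.{u})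
      (t' : D' ⟶ (Functor.const I).obj S') [∀ i, IsAffineHom (t'.app i)] (f' : X' ⟶ S')
      [LocallyOfFinitePresentation f']
      (c' : Cone D') (q' : c'.pt ⟶ S') (P' : Scheme.{u}) (p' : P' ⟶ X') (g' : P' ⟶ c'.pt),
      IsLimit c' → (∀ j, c'.π.app j ≫ t'.app j = q') → IsPullback p' g' f' q' → Pr g' →
      ∃ j, Pr (pullback.snd f' (t'.app j))) :
    ∃ j, Pr (pullback.snd f (t.app j)) := by
  have hcov : ∀ x : X, ∃ (V : S.Opens) (W : X.Opens) (_ : IsAffineOpen V) (_ : IsAffineOpen W)
      (_ : W ≤ f ⁻¹ᵁ V), x ∈ W := by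
    intro x
    obtain ⟨_, ⟨V, hV, rfl⟩, hxV, -⟩ :=
      S.isBasis_affineOpens.exists_subset_of_mem_open (Set.mem_univ (f x)) isOpen_univ
    obtain ⟨_, ⟨W, hW, rfl⟩, hxW, hWV⟩ :=
      X.isBasis_affineOpens.exists_subset_of_mem_open (show x ∈ f ⁻¹ᵁ V from hxV) (f ⁻¹ᵁ V).2
    exact ⟨V, W, hV, hW, hWV, hxW⟩
  choose V W hV hW e hx using hcov
  obtain ⟨s, hs⟩ := isCompact_univ.elim_finite_subcover (fun x => (W x : Set X)) (fun x => (W x).2)
    (fun x _ => Set.mem_iUnion.2 ⟨x, hx x⟩)
  have key : ∀ x : s, ∃ j,
      Pr (pullback.snd (f.resLE (V x) (W x) (e x)) ((pbFst D t (V x).ι).app j)) := by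
    intro x
    haveI : IsAffine (V x).toScheme := hV x
    haveI : IsAffine (W x).toScheme := hW x
    haveI : LocallyOfFinitePresentation (f.resLE (V x) (W x) (e x)) :=
      IsZariskiLocalAtSource.resLE (e x.1) ‹LocallyOfFinitePresentation f›
    let hQ := IsPullback.of_hasPullback (V x).ι q
    obtain ⟨a, ha, hag⟩ := exists_piece (V x) (W x) (e x) hP
    haveI : IsOpenImmersion a := MorphismProperty.of_isPullback ha inferInstance
    haveI : IsOpenImmersion (pullback.snd (V x).ι q) := inferInstance
    refine H _ _ (pbDiagram D t (V x).ι) (pbFst D t (V x).ι) (f.resLE (V x) (W x) (e x))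
      (pbCone D t (V x).ι c hq hQ) (pullback.fst (V x).ι q) _
      (pullback.fst (f.resLE (V x) (W x) (e x)) (pullback.fst (V x).ι q))
      (pullback.snd (f.resLE (V x) (W x) (e x)) (pullback.fst (V x).ι q))
      (pbIsLimit D t (V x).ι c hq hQ hc)
      (fun j => pbCone_fst D t (V x).ι c hq hQ j) (IsPullback.of_hasPullback _ _) ?_
    have h1 : Pr (a ≫ g) := IsZariskiLocalAtSource.comp hg a
    rw [hag] at h1
    let r := pullback.snd (f.resLE (V x) (W x) (e x)) (pullback.fst (V x).ι q)
    let i := pullback.snd (V x).ι q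
    have hsq : IsPullback (𝟙 _) r (r ≫ i) i :=
      IsPullback.of_isLimit' ⟨by simp⟩ (PullbackCone.IsLimit.mk _ (fun s => s.fst)
        (fun s => by simp) (fun s => by rw [← cancel_mono i]; simpa using s.condition)
        (fun s m h1 _ => by simpa using h1))
    exact MorphismProperty.of_isPullback hsq h1
  choose j hj using key
  classical
  obtain ⟨k, hk⟩ := IsCofiltered.inf_objs_exists (Finset.univ.image j)
  refine ⟨k, IsZariskiLocalAtSource.of_iSup_eq_top
    (fun x : s => pullback.fst f (t.app k) ⁻¹ᵁ W x) ?_ ?_⟩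
  · rw [← Scheme.Hom.preimage_iSup, eq_top_iff]
    intro y _
    obtain ⟨x, hx, hyx⟩ := Set.mem_iUnion₂.1 (hs (Set.mem_univ (pullback.fst f (t.app k) y)))
    exact TopologicalSpace.Opens.mem_iSup.2 ⟨⟨x, hx⟩, hyx⟩
  intro x
  obtain ⟨b⟩ := hk (Finset.mem_image_of_mem j (Finset.mem_univ x))
  have h1 : Pr (pullback.snd (f.resLE (V x) (W x) (e x)) ((pbFst D t (V x).ι).app k)) :=
    MorphismProperty.of_isPullback
      (pbMap_isPullback (pbDiagram D t (V x).ι) (pbFst D t (V x).ι) _ b) (hj x)
  obtain ⟨a, ha, hag⟩ := exists_piece (V x) (W x) (e x) (IsPullback.of_hasPullback f (t.app k))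
  have h2 : Pr (a ≫ pullback.snd f (t.app k)) := by
    rw [hag]; exact hopen _ _ h1 inferInstance
  have hU := isPullback_morphismRestrict (pullback.fst f (t.app k)) (W x)
  have hh : hU.isoPullback.hom ≫ pullback.snd (W x).ι (pullback.fst f (t.app k)) = _ :=
    hU.isoPullback_hom_snd
  rw [← hh, Category.assoc, MorphismProperty.cancel_left_of_respectsIso Pr]
  rw [← ha.isoPullback_hom_snd, Category.assoc, MorphismProperty.cancel_left_of_respectsIso Pr] at h2
  exact h2

/-- Smoothness descends. -/
theorem exists_smooth (hc : IsLimit c) [LocallyOfFinitePresentation f] [CompactSpace X]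
    (hq : ∀ j, c.π.app j ≫ t.app j = q) (hP : IsPullback p g f q) [Smooth g] :
    ∃ j, Smooth (pullback.snd f (t.app j)) := by
  refine exists_of_affine @Smooth (fun a b ha hb => ?_) hc hq hP inferInstance ?_
  · have := ha
    have := hb
    infer_instance
  · intro S' X' _ _ D' t' _ f' _ c' q' P' p' g' hc' hq' hP' hg'
    have : Smooth g' := hg'
    exact exists_smooth_of_isAffine hc' hq' hP'

/-- Étaleness descends. -/
theorem exists_etale (hc : IsLimit c) [LocallyOfFinitePresentation f] [CompactSpace X]
    (hq : ∀ j, c.π.app j ≫ t.app j = q) (hP : IsPullback p g f q) [Etale g] :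
    ∃ j, Etale (pullback.snd f (t.app j)) := by
  refine exists_of_affine @Etale (fun a b ha hb => ?_) hc hq hP inferInstance ?_
  · have := ha
    have := hb
    infer_instance
  · intro S' X' _ _ D' t' _ f' _ c' q' P' p' g' hc' hq' hP' hg'
    have : Etale g' := hg'
    exact exists_etale_of_isAffine hc' hq' hP'

/-- Being formally unramified descends, compact qs base. -/
theorem exists_formallyUnramified_of_qcqs [CompactSpace S] [QuasiSeparatedSpace S] (hc : IsLimit c)
    [QuasiCompact f] [QuasiSeparated f] [LocallyOfFinitePresentation f]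
    (hq : ∀ j, c.π.app j ≫ t.app j = q) (hP : IsPullback p g f q) [FormallyUnramified g] :
    ∃ j, FormallyUnramified (pullback.snd f (t.app j)) := by
  haveI : CompactSpace X := QuasiCompact.compactSpace_of_compactSpace f
  haveI : QuasiSeparatedSpace X := quasiSeparatedSpace_of_quasiSeparated f
  haveI : CompactSpace ↥(pullback f f) :=
    QuasiCompact.compactSpace_of_compactSpace (pullback.fst f f)
  haveI : QuasiSeparatedSpace ↥(pullback f f) :=
    quasiSeparatedSpace_of_quasiSeparated (pullback.fst f f)
  haveI : LocallyOfFiniteType g := MorphismProperty.of_isPullback hP (inferInstanceAs (LocallyOfFiniteType f))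
  let w : pullback f f ⟶ S := pullback.fst f f ≫ f
  let hW := IsPullback.of_hasPullback w q
  have hlim := pbIsLimit D t w c hq hW hc
  have hp : (p ≫ pullback.diagonal f) ≫ w = g ≫ q := by simp [w, hP.w]
  let g' : P ⟶ pullback w q := pullback.lift (p ≫ pullback.diagonal f) g hp
  have hP' : IsPullback p g' (pullback.diagonal f) (pullback.fst w q) := by
    refine IsPullback.of_bot ?_ (pullback.lift_fst _ _ _).symm hW
    rw [pullback.lift_snd, show pullback.diagonal f ≫ w = f by simp [w]]
    exact hP
  haveI : IsOpenImmersion g' := by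
    have h1 : (pullback.fst w q ≫ pullback.fst f f) ≫ f = pullback.snd w q ≫ q := by
      rw [Category.assoc]; exact pullback.condition
    have h2 : (pullback.fst w q ≫ pullback.snd f f) ≫ f = pullback.snd w q ≫ q := by
      rw [Category.assoc, ← pullback.condition (f := f) (g := f)]; exact pullback.condition
    let φ : pullback w q ⟶ pullback g g :=
      pullback.lift (hP.lift _ _ h1) (hP.lift _ _ h2) (by simp)
    let ψ : pullback g g ⟶ pullback w q :=
      pullback.lift (pullback.lift (pullback.fst g g ≫ p) (pullback.snd g g ≫ p)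
        (by simp only [Category.assoc, hP.w, reassoc_of% (pullback.condition (f := g) (g := g))]))
        (pullback.fst g g ≫ g) (by simp [w, hP.w])
    have hψφ : ψ ≫ φ = 𝟙 _ := by
      apply pullback.hom_ext
      · apply hP.hom_ext <;> simp [φ, ψ]
      · apply hP.hom_ext <;> simp [φ, ψ, pullback.condition]
    have hφψ : φ ≫ ψ = 𝟙 _ := by
      apply pullback.hom_ext
      · apply pullback.hom_ext <;> simp [φ, ψ]
      · simp [φ, ψ]
    haveI : IsIso ψ := ⟨φ, hψφ, hφψ⟩
    have hψ : g' = pullback.diagonal g ≫ ψ := by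
      apply pullback.hom_ext
      · apply pullback.hom_ext <;> simp [g', ψ]
      · simp [g', ψ]
    rw [hψ]; infer_instance
  haveI : LocallyOfFinitePresentation (pullback.diagonal f) := by
    haveI : LocallyOfFinitePresentation (pullback.diagonal f ≫ pullback.fst f f) := by
      rw [pullback.diagonal_fst]; infer_instance
    exact SchBasic.locallyOfFinitePresentation_of_comp (pullback.diagonal f) (pullback.fst f f)
  obtain ⟨k, hk⟩ := exists_isOpenImmersion (t := pbFst D t w) (f := pullback.diagonal f) hlim
    (fun j => pbCone_fst D t w c hq hW j) hP'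
  refine ⟨k, ?_⟩
  let T := t.app k
  let η' : pullback f T ⟶ pullback (pullback.diagonal f) (pullback.fst w T) :=
    pullback.lift (pullback.fst f T) (pullback.lift (pullback.fst f T ≫ pullback.diagonal f)
      (pullback.snd f T) (by simp [w, pullback.condition])) (by simp)
  have h4 : (pullback.fst (pullback.diagonal f) (pullback.fst w T)) ≫ f =
      (pullback.snd (pullback.diagonal f) (pullback.fst w T) ≫ pullback.snd w T) ≫ T := by
    rw [Category.assoc, ← pullback.condition, ← reassoc_of% pullback.condition]
    simp [w]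
  haveI : IsIso η' := ⟨pullback.lift _ _ h4, by apply pullback.hom_ext <;> simp [η'], by
    apply pullback.hom_ext
    · simp [η']
    · apply pullback.hom_ext
      · simp [η', pullback.condition]
      · simp [η']⟩
  have h5 : (pullback.fst w T ≫ pullback.fst f f) ≫ f = pullback.snd w T ≫ T := by
    rw [Category.assoc]; exact pullback.condition
  have h6 : (pullback.fst w T ≫ pullback.snd f f) ≫ f = pullback.snd w T ≫ T := by
    rw [Category.assoc, ← pullback.condition (f := f) (g := f)]; exact pullback.condition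
  let ρ : pullback w T ⟶ pullback (pullback.snd f T) (pullback.snd f T) :=
    pullback.lift (pullback.lift _ _ h5) (pullback.lift _ _ h6) (by simp)
  let ξ : pullback (pullback.snd f T) (pullback.snd f T) ⟶ pullback w T :=
    pullback.lift (pullback.lift (pullback.fst _ _ ≫ pullback.fst f T)
      (pullback.snd _ _ ≫ pullback.fst f T)
      (by simp only [Category.assoc, pullback.condition]
          rw [reassoc_of% (pullback.condition (f := pullback.snd f T) (g := pullback.snd f T))]))
      (pullback.fst _ _ ≫ pullback.snd f T) (by simp [w, pullback.condition])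
  haveI : IsIso ρ := ⟨ξ, by
    apply pullback.hom_ext
    · apply pullback.hom_ext <;> simp [ξ, ρ]
    · simp [ξ, ρ], by
    apply pullback.hom_ext
    · apply pullback.hom_ext <;> simp [ξ, ρ]
    · apply pullback.hom_ext <;> simp [ξ, ρ, pullback.condition]⟩
  have hdiag : pullback.diagonal (pullback.snd f T) =
      η' ≫ pullback.snd (pullback.diagonal f) (pullback.fst w T) ≫ ρ := by
    apply pullback.hom_ext <;> apply pullback.hom_ext <;> simp [η', ρ]
  haveI : IsOpenImmersion (pullback.snd (pullback.diagonal f) (pullback.fst w T)) := hk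
  haveI : IsOpenImmersion (pullback.diagonal (pullback.snd f T)) := by
    rw [hdiag]; infer_instance
  infer_instance

/-- Being formally unramified descends. -/
theorem exists_formallyUnramified (hc : IsLimit c) [LocallyOfFinitePresentation f] [CompactSpace X]
    (hq : ∀ j, c.π.app j ≫ t.app j = q) (hP : IsPullback p g f q) [FormallyUnramified g] :
    ∃ j, FormallyUnramified (pullback.snd f (t.app j)) := by
  refine exists_of_affine @FormallyUnramified (fun a b ha hb => ?_) hc hq hP inferInstance ?_
  · have := hb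
    exact MorphismProperty.comp_mem _ a b ha inferInstance
  · intro S' X' _ _ D' t' _ f' _ c' q' P' p' g' hc' hq' hP' hg'
    have : FormallyUnramified g' := hg'
    exact exists_formallyUnramified_of_qcqs hc' hq' hP'

end Groth.Agent.Descend
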