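import Groth.Agent.Lib.Descend.Basic

/-!
# Changing the base of a system; reducing descent problems to an affine base
-/

universe u

set_option backward.isDefEq.respectTransparency false
set_option backward.defeqAttrib.useBackward true
set_option linter.style.haveILetI false

open CategoryTheory CategoryTheory.Limits AlgebraicGeometry

namespace Groth.Agent.Descend

variable {I : Type u} [SmallCategory I] [IsCofiltered I] {S S' X : Scheme.{u}} {D : I ⥤ Scheme.{u}}
  {t : D ⟶ (Functor.const I).obj S} {f : X ⟶ S} (ι : S' ⟶ S)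

/-- The base change of a member of the pulled back system. -/
noncomputable def bcMap (k : I) :
    pullback (pullback.snd f ι) ((pbFst D t ι).app k) ⟶ pullback f (t.app k) :=
  pullback.lift (pullback.fst _ _ ≫ pullback.fst f ι)
    (pullback.snd (pullback.snd f ι) ((pbFst D t ι).app k) ≫ pullback.snd ι (t.app k))
    (by
      rw [Category.assoc, pullback.condition, pullback.condition_assoc, Category.assoc]
      show _ ≫ pullback.fst ι (t.app k) ≫ ι = _
      rw [pullback.condition])

lemma bcMap_isPullback (k : I) :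
    IsPullback (bcMap (f := f) ι k) (pullback.snd (pullback.snd f ι) ((pbFst D t ι).app k))
      (pullback.snd f (t.app k)) (pullback.snd ι (t.app k)) := by
  refine IsPullback.of_right ?_ (pullback.lift_snd _ _ _) (IsPullback.of_hasPullback f (t.app k))
  rw [bcMap, pullback.lift_fst, ← pullback.condition (f := ι) (g := t.app k)]
  exact (IsPullback.of_hasPullback _ _).paste_horiz (IsPullback.of_hasPullback f ι)

variable {c : Cone D} {q : c.pt ⟶ S} {P : Scheme.{u}} {p : P ⟶ X} {g : P ⟶ c.pt}

/-- The base change of the limit square. -/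
lemma bc_isPullback (hP : IsPullback p g f q) :
    IsPullback (pullback.lift p g hP.w ≫ 𝟙 _) (𝟙 P ≫ g) (pullback.snd f q) (𝟙 c.pt) := by
  simp only [Category.comp_id, Category.id_comp]
  refine IsPullback.of_right ?_ (by simp) (IsPullback.of_hasPullback f q)
  simpa using hP

/-- The base change to `ι` of a pullback to the limit. -/
lemma bc_isPullback_limit (hP : IsPullback p g f q) :
    ∃ (a : pullback (pullback.snd f ι) (pullback.fst ι q) ⟶ P),
      IsPullback a (pullback.snd (pullback.snd f ι) (pullback.fst ι q)) g (pullback.snd ι q) := by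
  have h : (pullback.fst (pullback.snd f ι) (pullback.fst ι q) ≫ pullback.fst f ι) ≫ f =
      (pullback.snd (pullback.snd f ι) (pullback.fst ι q) ≫ pullback.snd ι q) ≫ q := by
    rw [Category.assoc, pullback.condition, pullback.condition_assoc, pullback.condition,
      Category.assoc]
  refine ⟨hP.lift _ _ h, IsPullback.of_right ?_ (hP.lift_snd _ _ h) hP⟩
  rw [hP.lift_fst, ← pullback.condition (f := ι) (g := q)]
  exact (IsPullback.of_hasPullback _ _).paste_horiz (IsPullback.of_hasPullback f ι)

/-- Descent of a property which is local at the target reduces to an affine base. -/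
theorem exists_of_affine_base (Q R Pr : MorphismProperty Scheme.{u}) [Q.IsStableUnderBaseChange]
    [R.IsStableUnderBaseChange] [Pr.IsStableUnderBaseChange] [IsZariskiLocalAtTarget Pr]
    [CompactSpace S] [∀ i, IsAffineHom (t.app i)]
    (hc : IsLimit c) (hq : ∀ j, c.π.app j ≫ t.app j = q) (hP : IsPullback p g f q)
    (hg : Q g) (hf : R f)
    (H : ∀ (S' X' : Scheme.{u}) [IsAffine S'] (D' : I ⥤ Scheme.{u})
      (t' : D' ⟶ (Functor.const I).obj S') [∀ i, IsAffineHom (t'.app i)] (f' : X' ⟶ S')
      (c' : Cone D') (q' : c'.pt ⟶ S') (P' : Scheme.{u}) (p' : P' ⟶ X') (g' : P' ⟶ c'.pt),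
      R f' → IsLimit c' → (∀ j, c'.π.app j ≫ t'.app j = q') → IsPullback p' g' f' q' → Q g' →
      ∃ j, Pr (pullback.snd f' (t'.app j))) :
    ∃ j, Pr (pullback.snd f (t.app j)) := by
  let 𝒰 := S.affineCover.finiteSubcover
  have key : ∀ u : 𝒰.I₀, ∃ j,
      Pr (pullback.snd (pullback.snd f (𝒰.f u)) ((pbFst D t (𝒰.f u)).app j)) := by
    intro u
    haveI : IsAffine (𝒰.X u) := inferInstanceAs (IsAffine (Spec _))
    let hQ := IsPullback.of_hasPullback (𝒰.f u) q
    obtain ⟨a, ha⟩ := bc_isPullback_limit (f := f) (𝒰.f u) hP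
    exact H (𝒰.X u) _ (pbDiagram D t (𝒰.f u)) (pbFst D t (𝒰.f u)) (pullback.snd f (𝒰.f u))
      (pbCone D t (𝒰.f u) c hq hQ) (pullback.fst (𝒰.f u) q) _ _ _
      (MorphismProperty.pullback_snd _ _ hf) (pbIsLimit D t (𝒰.f u) c hq hQ hc)
      (fun j => pbCone_fst D t (𝒰.f u) c hq hQ j) (IsPullback.of_hasPullback _ _)
      (MorphismProperty.of_isPullback ha hg)
  choose j hj using key
  haveI : Finite 𝒰.I₀ := inferInstance
  cases nonempty_fintype 𝒰.I₀
  classical
  obtain ⟨k, hk⟩ := IsCofiltered.inf_objs_exists (Finset.univ.image j)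
  refine ⟨k, ?_⟩
  rw [IsZariskiLocalAtTarget.iff_of_openCover (P := Pr) (𝒰.pullback₂ (t.app k))]
  intro (u : 𝒰.I₀)
  obtain ⟨b⟩ := hk (Finset.mem_image_of_mem j (Finset.mem_univ u))
  have h1 : Pr (pullback.snd (pullback.snd f (𝒰.f u)) ((pbFst D t (𝒰.f u)).app k)) := by
    have hh := pbMap_isPullback (pbDiagram D t (𝒰.f u)) (pbFst D t (𝒰.f u)) (pullback.snd f (𝒰.f u)) b
    exact MorphismProperty.of_isPullback hh (hj u)
  rw [← (bcMap_isPullback (f := f) (t := t) (𝒰.f u) k).isoPullback_hom_snd,
    MorphismProperty.cancel_left_of_respectsIso Pr] at h1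
  exact h1

end Groth.Agent.Descend
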