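import Groth.Agent.Lib.LimH13.SubAlgLimit
import Groth.Agent.Lib.Descend.Stage
import Groth.Agent.Lib.Descend.EtaleGlobal
import Groth.Agent.S0591

/-!
# Models over finitely generated subrings of a ring
-/

universe u

open CategoryTheory CategoryTheory.Limits AlgebraicGeometry Opposite

set_option backward.isDefEq.respectTransparency false
set_option backward.isDefEq.respectTransparency.types false
set_option backward.defeqAttrib.useBackward true
set_option linter.style.haveILetI false

noncomputable section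

namespace Groth.Agent.Descend

variable (A : Type u) [CommRing A]

/-- Finitely generated subrings. -/
def FgIdx : Type u := {B : Subalgebra ℤ A // B.FG}

instance : Preorder (FgIdx A) := inferInstanceAs (Preorder (Subtype _))

instance : Nonempty (FgIdx A) := ⟨⟨⊥, Subalgebra.fg_bot⟩⟩

instance : IsDirected (FgIdx A) (· ≤ ·) :=
  ⟨fun a b => ⟨⟨a.1 ⊔ b.1, a.2.sup b.2⟩, le_sup_left (a := a.1) (b := b.1), le_sup_right (a := a.1) (b := b.1)⟩⟩

/-- The system of finitely generated subrings. -/
def fgRing : FgIdx A ⥤ CommRingCat.{u} where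
  obj i := CommRingCat.of i.1
  map {i j} a := CommRingCat.ofHom (Subalgebra.inclusion (a.le : i.1 ≤ j.1)).toRingHom
  map_id _ := rfl
  map_comp _ _ := rfl

/-- The ring as a cocone. -/
def fgCocone : Cocone (fgRing A) where
  pt := CommRingCat.of A
  ι := { app := fun i => CommRingCat.ofHom (algebraMap i.1 A), naturality := fun _ _ _ => rfl }

/-- A ring is the colimit of its finitely generated subrings. -/
def isColimitFgCocone : IsColimit (fgCocone A) :=
  LimH13.SubAlg.isColimitOfInjective (fgCocone A) (fun i => Subtype.val_injective) fun x =>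
    ⟨⟨Algebra.adjoin ℤ {x}, Subalgebra.fg_adjoin_finset (R := ℤ) {x} |> fun h => by simpa using h⟩,
      ⟨x, Algebra.subset_adjoin rfl⟩, rfl⟩

variable {A}

/-- Models over finitely generated subrings, for properties which descend along limits. -/
theorem exists_fg_model (Q Pr : MorphismProperty Scheme.{u}) {X : Scheme.{u}}
    (f : X ⟶ Spec (CommRingCat.of A)) [LocallyOfFinitePresentation f] [QuasiCompact f] [QuasiSeparated f]
    (hf : Q f)
    (H : ∀ {I : Type u} [SmallCategory I] [IsCofiltered I] {S X' : Scheme.{u}} {D : I ⥤ Scheme.{u}}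
      {t : D ⟶ (Functor.const I).obj S} {f' : X' ⟶ S} {c : Cone D} {q : c.pt ⟶ S}
      {P : Scheme.{u}} {p : P ⟶ X'} {g : P ⟶ c.pt} [∀ i, IsAffineHom (t.app i)] (_ : IsLimit c)
      [CompactSpace S] [QuasiSeparatedSpace S] [LocallyOfFinitePresentation f'] [CompactSpace X']
      (_ : ∀ j, c.π.app j ≫ t.app j = q) (_ : IsPullback p g f' q), Q g →
      ∃ j, Pr (pullback.snd f' (t.app j))) :
    ∃ A₀ : Subalgebra ℤ A, A₀.FG ∧
      ∃ (X₀ : Scheme.{u}) (f₀ : X₀ ⟶ Spec (CommRingCat.of ↥A₀)) (g : X ⟶ X₀),
        Pr f₀ ∧ LocallyOfFinitePresentation f₀ ∧ QuasiCompact f₀ ∧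
          IsPullback g f f₀ (Spec.map (CommRingCat.ofHom (algebraMap (↥A₀) A))) := by
  let D := (fgRing A).op ⋙ Scheme.Spec
  let c : Cone D := Scheme.Spec.mapCone (fgCocone A).op
  have hc : IsLimit c := isLimitOfPreserves Scheme.Spec (isColimitFgCocone A).op
  haveI : ∀ i, IsAffine (D.obj i) := fun i => inferInstanceAs (IsAffine (Spec _))
  haveI : ∀ {i j} (a : i ⟶ j), IsAffineHom (D.map a) := fun a => inferInstance
  haveI : IsCofiltered (FgIdx A)ᵒᵖ := by
    haveI : IsFiltered (FgIdx A) := isFiltered_of_directed_le_nonempty _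
    infer_instance
  obtain ⟨i, Xi, fi, g, hfi, hfiqc, hfiqs, hg⟩ := S0591.result D c hc X f
  let c' : Cone (Over.forget i ⋙ D) := c.whisker (Over.forget i)
  have hc' : IsLimit c' := (Functor.Initial.isLimitWhiskerEquiv (Over.forget i) c).symm hc
  haveI : CompactSpace (D.obj i) := inferInstance
  haveI : QuasiSeparatedSpace (D.obj i) := inferInstance
  haveI : CompactSpace Xi := QuasiCompact.compactSpace_of_compactSpace fi
  haveI : ∀ k, IsAffineHom ((overT D i).app k) := fun k => inferInstanceAs (IsAffineHom (D.map k.hom))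
  have hq' : ∀ k, c'.π.app k ≫ (overT D i).app k = (c.π.app i : c'.pt ⟶ D.obj i) := fun k => c.w k.hom
  obtain ⟨k, hk⟩ := H (t := overT D i) (f' := fi) (q := (c.π.app i : c'.pt ⟶ D.obj i)) (g := (f : X ⟶ c'.pt))
    hc' hq' hg hf
  have hsq : IsPullback (pullback.lift g (f ≫ c.π.app k.left) (by
      rw [Category.assoc, show c.π.app k.left ≫ (overT D i).app k = c.π.app i from c.w k.hom, hg.w]))
      f (pullback.snd fi ((overT D i).app k)) (c.π.app k.left) := by
    refine IsPullback.of_right ?_ (pullback.lift_snd _ _ _) (IsPullback.of_hasPullback fi _)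
    rw [pullback.lift_fst, show c.π.app k.left ≫ (overT D i).app k = c.π.app i from c.w k.hom]
    exact hg
  exact ⟨k.left.unop.1, k.left.unop.2, _, pullback.snd fi ((overT D i).app k), _, hk,
    MorphismProperty.pullback_snd _ _ hfi, MorphismProperty.pullback_snd _ _ hfiqc, hsq⟩

end Groth.Agent.Descend
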