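import Groth.Agent.Lib.Descend.EtaleGlobal

/-!
# Descent of properties near a point along limits
-/

universe u

set_option backward.isDefEq.respectTransparency false
set_option backward.defeqAttrib.useBackward true
set_option linter.style.haveILetI false

open CategoryTheory CategoryTheory.Limits AlgebraicGeometry

namespace Groth.Agent.Descend

variable {I : Type u} [SmallCategory I] [IsCofiltered I]

/-- A property of morphisms near a point holds at the limit iff it holds at some stage. -/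
theorem nhd_iff_exists_stage (Pr : MorphismProperty Scheme.{u}) [Pr.IsStableUnderBaseChange]
    [IsZariskiLocalAtSource Pr]
    (desc : ∀ (J : Type u) [SmallCategory J] [IsCofiltered J] (S X : Scheme.{u}) (E : J ⥤ Scheme.{u})
      (t : E ⟶ (Functor.const J).obj S) [∀ j, IsAffineHom (t.app j)] (f : X ⟶ S)
      [LocallyOfFinitePresentation f] [CompactSpace X] (e : Cone E) (q : e.pt ⟶ S) (P : Scheme.{u})
      (p : P ⟶ X) (g : P ⟶ e.pt), IsLimit e → (∀ j, e.π.app j ≫ t.app j = q) →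
      IsPullback p g f q → Pr g → ∃ j, Pr (pullback.snd f (t.app j)))
    (D : I ⥤ Scheme.{u}) (c : Cone D) (hc : IsLimit c)
    [∀ (i j : I) (f : i ⟶ j), IsAffineHom (D.map f)] (i₀ : I)
    {X₀ Y₀ : Scheme.{u}} (f₀ : X₀ ⟶ Y₀) (g₀ : Y₀ ⟶ D.obj i₀)
    [LocallyOfFinitePresentation f₀]
    {X Y : Scheme.{u}} (f : X ⟶ Y) (g : Y ⟶ c.pt) (qY : Y ⟶ Y₀) (qX : X ⟶ X₀)
    (hY : IsPullback qY g g₀ (c.π.app i₀)) (hX : IsPullback qX f f₀ qY) (x : ↥X) :
    (∃ U : X.Opens, x ∈ U ∧ Pr (U.ι ≫ f)) ↔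
      ∃ (j : I) (φ : j ⟶ i₀) (Xj Yj : Scheme.{u}) (fj : Xj ⟶ Yj) (gj : Yj ⟶ D.obj j) (pY : Yj ⟶ Y₀)
        (pX : Xj ⟶ X₀) (rX : X ⟶ Xj), IsPullback pY gj g₀ (D.map φ) ∧ IsPullback pX fj f₀ pY ∧
          rX ≫ pX = qX ∧ rX ≫ fj ≫ gj = f ≫ g ≫ c.π.app j ∧
          ∃ V : Xj.Opens, rX.base x ∈ V ∧ Pr (V.ι ≫ fj) := by
  constructor
  · rintro ⟨U, hxU, hU⟩
    let c' : Cone (Over.forget i₀ ⋙ D) := c.whisker (Over.forget i₀)
    have hc' : IsLimit c' := (Functor.Initial.isLimitWhiskerEquiv (Over.forget i₀) c).symm hc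
    have hq : ∀ k, c'.π.app k ≫ (overT D i₀).app k = c.π.app i₀ := fun k => c.w k.hom
    let E := pbDiagram (Over.forget i₀ ⋙ D) (overT D i₀) g₀
    let tE := pbFst (Over.forget i₀ ⋙ D) (overT D i₀) g₀
    let cE := pbCone _ (overT D i₀) g₀ c' hq hY
    have hcE : IsLimit cE := pbIsLimit _ (overT D i₀) g₀ c' hq hY hc'
    have hqE : ∀ k, cE.π.app k ≫ tE.app k = qY := fun k => pbCone_fst _ (overT D i₀) g₀ c' hq hY k
    let F := pbDiagram E tE f₀
    let cF := pbCone E tE f₀ cE hqE hX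
    have hcF : IsLimit cF := pbIsLimit E tE f₀ cE hqE hX hcE
    haveI : ∀ {i j : Over i₀} (a : i ⟶ j), IsAffineHom (F.map a) := fun a => pb_isAffineHom_map E tE f₀ a
    obtain ⟨_, ⟨_, ⟨j, W, hW, rfl⟩, rfl⟩, hxW, hWU⟩ :=
      (isBasis_preimage_isAffineOpen F cF hcF).exists_subset_of_mem_open hxU U.2
    haveI : CompactSpace W.toScheme := isCompact_iff_compactSpace.mp hW.isCompact
    haveI : LocallyOfFinitePresentation (W.ι ≫ pullback.snd f₀ (tE.app j)) := by
      haveI : LocallyOfFinitePresentation (pullback.snd f₀ (tE.app j)) :=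
        MorphismProperty.pullback_snd _ _ ‹_›
      infer_instance
    have hsq : IsPullback (cF.π.app j ∣_ W) ((cF.π.app j ⁻¹ᵁ W).ι ≫ f)
        (W.ι ≫ pullback.snd f₀ (tE.app j)) (cE.π.app j) :=
      (isPullback_morphismRestrict _ W).paste_vert (pbCone_isPullback E tE f₀ cE hqE hX j)
    have hPr : Pr ((cF.π.app j ⁻¹ᵁ W).ι ≫ f) := by
      rw [← Scheme.homOfLE_ι X (show cF.π.app j ⁻¹ᵁ W ≤ U from hWU), Category.assoc]
      exact IsZariskiLocalAtSource.comp hU _
    haveI : ∀ k, IsAffineHom ((overT E j).app k) := fun k =>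
      pb_isAffineHom_map (Over.forget i₀ ⋙ D) (overT D i₀) g₀ k.hom
    obtain ⟨k, hk⟩ := desc (Over j) _ _ (Over.forget j ⋙ E) (overT E j)
      (W.ι ≫ pullback.snd f₀ (tE.app j)) (cE.whisker (Over.forget j)) (cE.π.app j) _ _ _
      ((Functor.Initial.isLimitWhiskerEquiv (Over.forget j) cE).symm hcE)
      (fun k => cE.w k.hom) hsq hPr
    refine ⟨k.left.left, k.left.hom, _, _, pullback.snd f₀ (tE.app k.left),
      pullback.snd g₀ (D.map k.left.hom), pullback.fst g₀ (D.map k.left.hom),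
      pullback.fst f₀ (tE.app k.left), cF.π.app k.left, IsPullback.of_hasPullback _ _,
      IsPullback.of_hasPullback _ _, pbCone_fst E tE f₀ cE hqE hX k.left, ?_,
      F.map k.hom ⁻¹ᵁ W, ?_, ?_⟩
    · rw [← Category.assoc]
      erw [pbCone_snd E tE f₀ cE hqE hX k.left]
      rw [Category.assoc]
      congr 1
      exact pbCone_snd _ (overT D i₀) g₀ c' hq hY k.left
    · show (cF.π.app k.left) x ∈ F.map k.hom ⁻¹ᵁ W
      have hh : (cF.π.app k.left ≫ F.map k.hom) x ∈ W := by rw [cF.w]; exact hxW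
      exact hh
    · have hsq2 : IsPullback (F.map k.hom ∣_ W)
          ((F.map k.hom ⁻¹ᵁ W).ι ≫ pullback.snd f₀ (tE.app k.left))
          (W.ι ≫ pullback.snd f₀ (tE.app j)) (E.map k.hom) :=
        (isPullback_morphismRestrict _ W).paste_vert (pbMap_isPullback E tE f₀ k.hom)
      rw [← hsq2.isoPullback_hom_snd, MorphismProperty.cancel_left_of_respectsIso Pr]
      exact hk
  · rintro ⟨j, φ, Xj, Yj, fj, gj, pY, pX, rX, hYj, hXj, hrX, hrS, V, hxV, hV⟩
    have h1 : qY ≫ g₀ = (g ≫ c.π.app j) ≫ D.map φ := by rw [Category.assoc, c.w, hY.w]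
    let ℓ := hYj.lift qY (g ≫ c.π.app j) h1
    have hr : rX ≫ fj = f ≫ ℓ := by
      apply hYj.hom_ext
      · rw [Category.assoc, Category.assoc, hYj.lift_fst, ← hXj.w, reassoc_of% hrX, hX.w]
      · rw [Category.assoc, Category.assoc, hYj.lift_snd, hrS]
    have hsq : IsPullback rX f fj ℓ := by
      refine IsPullback.of_right ?_ hr hXj
      rw [hrX, hYj.lift_fst]
      exact hX
    exact ⟨rX ⁻¹ᵁ V, hxV, MorphismProperty.of_isPullback
      ((isPullback_morphismRestrict rX V).paste_vert hsq) hV⟩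

end Groth.Agent.Descend
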