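import Groth.Agent.Lib.Descend.BaseChange
import Groth.Agent.Lib.Descend.Props
import Groth.Agent.Lib.Descend.Stage
import Mathlib.AlgebraicGeometry.Morphisms.Etale
import Mathlib.AlgebraicGeometry.Morphisms.Smooth
import Mathlib.AlgebraicGeometry.Morphisms.FormallyUnramified
import Mathlib.RingTheory.Smooth.NoetherianDescent

/-!
# Descent of smooth, étale and unramified morphisms along limits
-/

universe u

set_option backward.isDefEq.respectTransparency false
set_option backward.defeqAttrib.useBackward true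
set_option linter.style.haveILetI false

open CategoryTheory CategoryTheory.Limits AlgebraicGeometry TensorProduct

namespace Groth.Agent.Descend

variable {I : Type u} [SmallCategory I] [IsCofiltered I] {S X : Scheme.{u}} {D : I ⥤ Scheme.{u}}
  {t : D ⟶ (Functor.const I).obj S} {f : X ⟶ S} {c : Cone D} {q : c.pt ⟶ S}
  {P : Scheme.{u}} {p : P ⟶ X} {g : P ⟶ c.pt}
  [∀ i, IsAffineHom (t.app i)] [CompactSpace S] [QuasiSeparatedSpace S]

/-- Two schemes of finite presentation over `S` which become isomorphic over the limit are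
isomorphic over a member of the system. -/
theorem exists_stageIso (hc : IsLimit c) [QuasiCompact f] [QuasiSeparated f]
    [LocallyOfFinitePresentation f] {M : Scheme.{u}} (f' : M ⟶ S) [QuasiCompact f']
    [QuasiSeparated f'] [LocallyOfFinitePresentation f'] (hq : ∀ j, c.π.app j ≫ t.app j = q)
    (hP : IsPullback p g f q) {p' : P ⟶ M} (hP' : IsPullback p' g f' q) :
    ∃ j, ∃ e : pullback f (t.app j) ⟶ pullback f' (t.app j), IsIso e ∧
      e ≫ pullback.snd f' (t.app j) = pullback.snd f (t.app j) := by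
  haveI : CompactSpace X := QuasiCompact.compactSpace_of_compactSpace f
  haveI : QuasiSeparatedSpace X := quasiSeparatedSpace_of_quasiSeparated f
  haveI : CompactSpace M := QuasiCompact.compactSpace_of_compactSpace f'
  haveI : QuasiSeparatedSpace M := quasiSeparatedSpace_of_quasiSeparated f'
  have hlim := pbIsLimit D t f c hq hP hc
  obtain ⟨i, h₀, hh₀, hh₀f⟩ := Scheme.exists_π_app_comp_eq_of_locallyOfFinitePresentation
    (pbDiagram D t f) (pbFst D t f ≫ (Functor.const I).map f) f' _ hlim p' (by
      ext k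
      show (pbCone D t f c hq hP).π.app k ≫ pullback.fst f (t.app k) ≫ f = p' ≫ f'
      rw [pbCone_fst_assoc, hP.w, hP'.w])
  let h : pullback f (t.app i) ⟶ pullback f' (t.app i) :=
    pullback.lift h₀ (pullback.snd f (t.app i))
      (by rw [hh₀f]; simp [pbFst, pullback.condition])
  haveI : QuasiCompact (h ≫ pullback.snd f' (t.app i)) := by
    rw [pullback.lift_snd]; infer_instance
  haveI : QuasiSeparated (h ≫ pullback.snd f' (t.app i)) := by
    rw [pullback.lift_snd]; infer_instance
  haveI : LocallyOfFinitePresentation (h ≫ pullback.snd f' (t.app i)) := by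
    rw [pullback.lift_snd]; infer_instance
  haveI := QuasiCompact.of_comp h (pullback.snd f' (t.app i))
  haveI := QuasiSeparated.of_comp h (pullback.snd f' (t.app i))
  haveI := SchBasic.locallyOfFinitePresentation_of_comp h (pullback.snd f' (t.app i))
  haveI : CompactSpace ↥(pullback f' (t.app i)) := pb_compactSpace D t f' i
  haveI : QuasiSeparatedSpace ↥(pullback f' (t.app i)) := pb_quasiSeparatedSpace D t f' i
  haveI : ∀ {i j : I} (a : i ⟶ j), IsAffineHom (D.map a) := fun a => isAffineHom_map D t a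
  let E := Over.forget i ⋙ pbDiagram D t f'
  let tE : E ⟶ (Functor.const (Over i)).obj (pullback f' (t.app i)) :=
    overT (pbDiagram D t f') i
  let cE : Cone E := (pbCone D t f' c hq hP').whisker (Over.forget i)
  have hcE : IsLimit cE := (Functor.Initial.isLimitWhiskerEquiv (Over.forget i) _).symm
    (pbIsLimit D t f' c hq hP' hc)
  haveI : ∀ k, IsAffineHom (tE.app k) := fun k => pb_isAffineHom_map D t f' k.hom
  have hqE : ∀ k, cE.π.app k ≫ tE.app k = (pbCone D t f' c hq hP').π.app i :=
    fun k => (pbCone D t f' c hq hP').w k.hom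
  have hcomm : (pbCone D t f c hq hP).π.app i ≫ h = 𝟙 P ≫ (pbCone D t f' c hq hP').π.app i := by
    rw [Category.id_comp]
    apply pullback.hom_ext
    · rw [Category.assoc, pullback.lift_fst, hh₀, pbCone_fst]
    · rw [Category.assoc, pullback.lift_snd, pbCone_snd, pbCone_snd]
  have hPE : IsPullback ((pbCone D t f c hq hP).π.app i) (𝟙 P) h
      ((pbCone D t f' c hq hP').π.app i) := by
    refine IsPullback.of_bot ?_ hcomm (pbCone_isPullback D t f' c hq hP' i)
    erw [Category.id_comp, pullback.lift_snd]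
    exact pbCone_isPullback D t f c hq hP i
  haveI : IsOpenImmersion (𝟙 P : P ⟶ cE.pt) := inferInstanceAs (IsOpenImmersion (𝟙 P))
  haveI : Surjective (𝟙 P : P ⟶ cE.pt) := inferInstanceAs (Surjective (𝟙 P))
  obtain ⟨k₁, hk₁⟩ := exists_isOpenImmersion (t := tE) (f := h) hcE hqE hPE
  obtain ⟨k₂, hk₂⟩ := exists_surjective (t := tE) (f := h) hcE hqE hPE
  let k := IsCofiltered.min k₁ k₂
  haveI : IsOpenImmersion (pullback.snd h (tE.app k)) :=
    MorphismProperty.of_isPullback (pbMap_isPullback E tE h (IsCofiltered.minToLeft k₁ k₂)) hk₁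
  haveI : Surjective (pullback.snd h (tE.app k)) :=
    MorphismProperty.of_isPullback (pbMap_isPullback E tE h (IsCofiltered.minToRight k₁ k₂)) hk₂
  haveI : IsIso (pullback.snd h (tE.app k)) :=
    isIso_of_isOpenImmersion_of_opensRange_eq_top _
      (TopologicalSpace.Opens.ext (Set.range_eq_univ.2 (pullback.snd h (tE.app k)).surjective))
  -- compare `pullback f (t k)` with the pullback of `h`
  let u : pullback f (t.app k.left) ⟶ pullback f' (t.app k.left) :=
    pullback.lift ((pbDiagram D t f).map k.hom ≫ h₀) (pullback.snd f (t.app k.left)) (by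
      rw [Category.assoc, hh₀f]
      show _ ≫ pullback.fst f (t.app i) ≫ f = _
      rw [pbMap_fst_assoc, pullback.condition])
  have hu : IsPullback ((pbDiagram D t f).map k.hom) u h ((pbDiagram D t f').map k.hom) := by
    refine IsPullback.of_bot ?_ ?_ (pbMap_isPullback D t f' k.hom)
    · rw [pullback.lift_snd, pullback.lift_snd]
      exact pbMap_isPullback D t f k.hom
    · apply pullback.hom_ext
      · simp [h, u, pbMap_fst]
      · simp [h, u, pbMap_snd]
  refine ⟨k.left, u, ?_, pullback.lift_snd _ _ _⟩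
  haveI : IsIso (pullback.snd h ((pbDiagram D t f').map k.hom)) := ‹IsIso (pullback.snd h (tE.app k))›
  have e := hu.isoPullback_hom_snd
  rw [← e]
  infer_instance

/-- A property descends as soon as the morphism at the limit comes from a model with the property. -/
theorem exists_of_model (Pr : MorphismProperty Scheme.{u}) [Pr.IsStableUnderBaseChange]
    (hc : IsLimit c) [QuasiCompact f] [QuasiSeparated f] [LocallyOfFinitePresentation f]
    (hq : ∀ j, c.π.app j ≫ t.app j = q) (hP : IsPullback p g f q)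
    {Z A₀ M : Scheme.{u}} (hZ : IsTerminal Z) (b : A₀ ⟶ Z) [LocallyOfFinitePresentation b]
    (m : M ⟶ A₀) [QuasiCompact m] [QuasiSeparated m] [LocallyOfFinitePresentation m] (hm : Pr m)
    (a : c.pt ⟶ A₀) {p₀ : P ⟶ M} (hM : IsPullback p₀ g m a) :
    ∃ j, Pr (pullback.snd f (t.app j)) := by
  haveI := fun k => compactSpace_obj D t k
  haveI := fun k => quasiSeparatedSpace_obj D t k
  haveI : ∀ {i j : I} (a : i ⟶ j), IsAffineHom (D.map a) := fun a => isAffineHom_map D t a
  obtain ⟨j, aj, haj, -⟩ := Scheme.exists_π_app_comp_eq_of_locallyOfFinitePresentation D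
    ({ app := fun _ => hZ.from _, naturality := fun _ _ _ => hZ.hom_ext _ _ } :
      D ⟶ (Functor.const I).obj Z) b _ hc a (by ext; exact hZ.hom_ext _ _)
  let cj : Cone (Over.forget j ⋙ D) := c.whisker (Over.forget j)
  have hcj : IsLimit cj := (Functor.Initial.isLimitWhiskerEquiv (Over.forget j) c).symm hc
  have hqj : ∀ k, cj.π.app k ≫ (overT D j).app k = c.π.app j := fun k => c.w k.hom
  have hM' : IsPullback (pullback.lift p₀ (g ≫ c.π.app j) (by rw [hM.w, Category.assoc, haj])) g
      (pullback.snd m aj) (c.π.app j) := by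
    refine IsPullback.of_right ?_ (pullback.lift_snd _ _ _) (IsPullback.of_hasPullback m aj)
    rw [pullback.lift_fst, haj]
    exact hM
  obtain ⟨k, u, hu, hsnd⟩ := exists_stageIso (t := overT D j) (f := pullback.snd f (t.app j)) hcj
    (pullback.snd m aj) hqj (pbCone_isPullback D t f c hq hP j) hM'
  refine ⟨k.left, ?_⟩
  have h1 : Pr (pullback.snd (pullback.snd f (t.app j)) ((overT D j).app k)) := by
    rw [← hsnd, MorphismProperty.cancel_left_of_respectsIso Pr u]
    exact MorphismProperty.pullback_snd _ _ (MorphismProperty.pullback_snd _ _ hm)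
  rw [← (pbMap_isPullback D t f k.hom).isoPullback_hom_snd,
    MorphismProperty.cancel_left_of_respectsIso Pr]
  exact h1

omit [IsCofiltered I] in
/-- The spectrum of a finitely generated ring is of finite presentation over `ℤ`. -/
theorem locallyOfFinitePresentation_int {A : Type u} [CommRing A] (A₀ : Subalgebra ℤ A) (h : A₀.FG) :
    LocallyOfFinitePresentation
      (specULiftZIsTerminal.from (Spec (CommRingCat.of A₀))) := by
  haveI : Algebra.FinitePresentation ℤ A₀ :=
    Algebra.FinitePresentation.of_finiteType.1 ((Subalgebra.fg_iff_finiteType A₀).1 h)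
  rw [specULiftZIsTerminal.hom_ext (specULiftZIsTerminal.from (Spec (CommRingCat.of A₀)))
    (Spec.map (CommRingCat.ofHom ((algebraMap ℤ A₀).comp (ULift.ringEquiv.{0, u} (R := ℤ)).toRingHom)))]
  refine (HasRingHomProperty.Spec_iff (P := @LocallyOfFinitePresentation)).2 ?_
  exact RingHom.FinitePresentation.comp (RingHom.finitePresentation_algebraMap.2 inferInstance)
    (RingHom.FinitePresentation.of_bijective ULift.ringEquiv.bijective)

omit [IsCofiltered I] in
/-- An isomorphism `Γ(P) ≃ Γ(T) ⊗[A₀] B₀` exhibits an affine `P → T` as a base change of the model. -/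
theorem exists_isPullback_model {T : Scheme.{u}} [IsAffine T] {Q : Scheme.{u}} [IsAffine Q]
    (g : Q ⟶ T) {R : Type*} [CommRing R] [Algebra R Γ(T, ⊤)] (A₀ : Subalgebra R Γ(T, ⊤))
    (B₀ : Type u) [CommRing B₀] [Algebra A₀ B₀] :
    letI := g.appTop.hom.toAlgebra
    (Γ(Q, ⊤) ≃ₐ[Γ(T, ⊤)] Γ(T, ⊤) ⊗[A₀] B₀) →
    ∃ p₀ : Q ⟶ Spec (CommRingCat.of B₀),
      IsPullback p₀ g (Spec.map (CommRingCat.ofHom (algebraMap A₀ B₀)))
        (T.isoSpec.hom ≫ Spec.map (CommRingCat.ofHom (algebraMap A₀ Γ(T, ⊤)))) := by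
  letI := g.appTop.hom.toAlgebra
  intro e
  have h0 := (isPullback_SpecMap_of_isPushout _ _ _ _
    (CommRingCat.isPushout_tensorProduct A₀ Γ(T, ⊤) B₀)).flip
  let i : Q ≅ Spec (CommRingCat.of (Γ(T, ⊤) ⊗[A₀] B₀)) :=
    Q.isoSpec ≪≫ Scheme.Spec.mapIso e.toRingEquiv.toCommRingCatIso.symm.op.symm.symm
  refine ⟨i.hom ≫ Spec.map (CommRingCat.ofHom Algebra.TensorProduct.includeRight.toRingHom), ?_⟩
  refine IsPullback.paste_horiz (IsPullback.of_horiz_isIso ⟨?_⟩) h0
  simp only [i, Iso.trans_hom, Category.assoc]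
  rw [show g ≫ T.isoSpec.hom = Q.isoSpec.hom ≫ Spec.map g.appTop by
    rw [Scheme.isoSpec_hom_naturality]]
  congr 1
  simp only [Functor.mapIso_hom, Iso.symm_hom, Iso.op_inv, Scheme.Spec_map, Quiver.Hom.unop_op,
    ← Spec.map_comp]
  congr 1
  ext x
  exact e.symm.commutes x

omit [QuasiSeparatedSpace S] [CompactSpace S] in
/-- The comparison with an affine model: smooth. -/
theorem exists_smooth_of_isAffine [IsAffine S] [IsAffine X] (hc : IsLimit c)
    [LocallyOfFinitePresentation f] (hq : ∀ j, c.π.app j ≫ t.app j = q) (hP : IsPullback p g f q)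
    [Smooth g] : ∃ j, Smooth (pullback.snd f (t.app j)) := by
  haveI hD : ∀ k, IsAffine (D.obj k) := fun k => by
    haveI : IsAffine (((Functor.const I).obj S).obj k) := ‹IsAffine S›
    exact isAffine_of_isAffineHom (t.app k)
  haveI : IsAffine c.pt := Scheme.isAffine_of_isLimit _ hc
  haveI : IsAffine P := IsAffine.of_isPullback hP
  have hg : g.appTop.hom.Smooth :=
    (HasRingHomProperty.iff_of_isAffine (P := @Smooth)).1 inferInstance
  algebraize [g.appTop.hom]
  obtain ⟨A₀, B₀, _, _, hfg, hsm, ⟨e⟩⟩ :=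
    Algebra.Smooth.exists_subalgebra_fg (R := ℤ) (A := Γ(c.pt, ⊤)) (B := Γ(P, ⊤))
  let b : Spec (CommRingCat.of A₀) ⟶ Spec (CommRingCat.of (ULift.{u} ℤ)) :=
    specULiftZIsTerminal.from _
  haveI : LocallyOfFinitePresentation b := locallyOfFinitePresentation_int A₀ hfg
  let m : Spec (CommRingCat.of B₀) ⟶ Spec (CommRingCat.of A₀) :=
    Spec.map (CommRingCat.ofHom (algebraMap A₀ B₀))
  haveI hm : Smooth m :=
    (HasRingHomProperty.Spec_iff (P := @Smooth)).2 (RingHom.smooth_algebraMap.2 hsm)
  obtain ⟨p₀, hM⟩ := exists_isPullback_model g A₀ B₀ e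
  exact exists_of_model @Smooth hc hq hP specULiftZIsTerminal b m hm _ hM

omit [QuasiSeparatedSpace S] [CompactSpace S] in
/-- The comparison with an affine model: étale. -/
theorem exists_etale_of_isAffine [IsAffine S] [IsAffine X] (hc : IsLimit c)
    [LocallyOfFinitePresentation f] (hq : ∀ j, c.π.app j ≫ t.app j = q) (hP : IsPullback p g f q)
    [Etale g] : ∃ j, Etale (pullback.snd f (t.app j)) := by
  haveI hD : ∀ k, IsAffine (D.obj k) := fun k => by
    haveI : IsAffine (((Functor.const I).obj S).obj k) := ‹IsAffine S›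
    exact isAffine_of_isAffineHom (t.app k)
  haveI : IsAffine c.pt := Scheme.isAffine_of_isLimit _ hc
  haveI : IsAffine P := IsAffine.of_isPullback hP
  have hg : g.appTop.hom.Etale :=
    (HasRingHomProperty.iff_of_isAffine (P := @Etale)).1 inferInstance
  algebraize [g.appTop.hom]
  obtain ⟨A₀, B₀, _, _, hfg, hsm, ⟨e⟩⟩ :=
    Algebra.Etale.exists_subalgebra_fg (R := ℤ) (A := Γ(c.pt, ⊤)) (B := Γ(P, ⊤))
  let b : Spec (CommRingCat.of A₀) ⟶ Spec (CommRingCat.of (ULift.{u} ℤ)) :=
    specULiftZIsTerminal.from _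
  haveI : LocallyOfFinitePresentation b := locallyOfFinitePresentation_int A₀ hfg
  let m : Spec (CommRingCat.of B₀) ⟶ Spec (CommRingCat.of A₀) :=
    Spec.map (CommRingCat.ofHom (algebraMap A₀ B₀))
  haveI hm : Etale m :=
    (HasRingHomProperty.Spec_iff (P := @Etale)).2 (RingHom.etale_algebraMap.2 hsm)
  obtain ⟨p₀, hM⟩ := exists_isPullback_model g A₀ B₀ e
  exact exists_of_model @Etale hc hq hP specULiftZIsTerminal b m hm _ hM

end Groth.Agent.Descend
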